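import Groth.Prelude.Def_Frob
import Groth.Prelude.Def_Flat
import Mathlib.AlgebraicGeometry.Morphisms.Integral
import Mathlib.AlgebraicGeometry.Morphisms.UniversallyInjective
import Mathlib.AlgebraicGeometry.Morphisms.Flat
import Mathlib.AlgebraicGeometry.Morphisms.Finite

/-!
# Frobenius morphisms are universal homeomorphisms
-/

universe u

open CategoryTheory CategoryTheory.Limits AlgebraicGeometry MorphismProperty

namespace GrothLib.Frob

variable {X Y Z : Scheme.{u}}

theorem isUnivHomeo_of (f : X ⟶ Y) [UniversallyClosed f] [UniversallyInjective f] [Surjective f] :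
    FlatMor.IsUnivHomeo f := by
  intro X' Y' i₁ i₂ f' h
  have : UniversallyClosed f' := MorphismProperty.of_isPullback h.flip ‹_›
  have : UniversallyInjective f' := MorphismProperty.of_isPullback h.flip ‹_›
  have : Surjective f' := MorphismProperty.of_isPullback h.flip ‹_›
  exact isHomeomorph_iff_continuous_isClosedMap_bijective.mpr
    ⟨f'.continuous, f'.isClosedMap, f'.injective, f'.surjective⟩

theorem universallyClosed_of (f : X ⟶ Y) (h : FlatMor.IsUnivHomeo f) : UniversallyClosed f :=
  ⟨fun _ _ a b c hsq ↦ (h a b c hsq).isClosedMap⟩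

theorem universallyInjective_of (f : X ⟶ Y) (h : FlatMor.IsUnivHomeo f) : UniversallyInjective f :=
  ⟨fun _ _ a b c hsq ↦ (h a b c hsq).injective⟩

theorem surjective_of (f : X ⟶ Y) (h : FlatMor.IsUnivHomeo f) : Surjective f :=
  ⟨(h _ _ f IsPullback.of_id_snd).surjective⟩

theorem isHomeomorph_of (f : X ⟶ Y) (h : FlatMor.IsUnivHomeo f) : IsHomeomorph f :=
  h _ _ f IsPullback.of_id_snd

theorem isUnivHomeo_iff (f : X ⟶ Y) :
    FlatMor.IsUnivHomeo f ↔ UniversallyClosed f ∧ UniversallyInjective f ∧ Surjective f :=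
  ⟨fun h ↦ ⟨universallyClosed_of f h, universallyInjective_of f h, surjective_of f h⟩,
    fun ⟨_, _, _⟩ ↦ isUnivHomeo_of f⟩

/-- A morphism is universally injective if it is injective on points with values in algebraically
closed fields. -/
theorem universallyInjective_of_algClosed (f : X ⟶ Y)
    (H : ∀ (K : Type u) [Field K] [IsAlgClosed K] (g₁ g₂ : Spec (.of K) ⟶ X),
      g₁ ≫ f = g₂ ≫ f → g₁ = g₂) : UniversallyInjective f := by
  refine ((tfae_universallyInjective f).out 1 0).mp ?_
  intro K _ g₁ g₂ hg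
  let L := AlgebraicClosure K
  let e : Spec (.of L) ⟶ Spec (.of K) := Spec.map (CommRingCat.ofHom (algebraMap K L))
  have : Subsingleton (Spec (CommRingCat.of K)) :=
    inferInstanceAs (Subsingleton (PrimeSpectrum K))
  have : Surjective e := ⟨fun y ↦ ⟨IsLocalRing.closedPoint L, Subsingleton.elim _ _⟩⟩
  have := Flat.epi_of_flat_of_surjective e
  rw [← cancel_epi e]
  exact H L _ _ (by simpa using congr(e ≫ $hg))

theorem universallyInjective_of_comp (f : X ⟶ Y) (g : Y ⟶ Z) [UniversallyInjective (f ≫ g)] :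
    UniversallyInjective f := by
  refine ((tfae_universallyInjective f).out 1 0).mp ?_
  intro K _ g₁ g₂ hg
  have := ‹UniversallyInjective (f ≫ g)›
  exact (((tfae_universallyInjective (f ≫ g)).out 0 1 rfl rfl).mp this) K (by simpa using congr($hg ≫ g))

theorem universallyClosed_of_comp (f : X ⟶ Y) (g : Y ⟶ Z) [UniversallyClosed (f ≫ g)]
    [IsSeparated g] : UniversallyClosed f := by
  have h₁ : IsClosedImmersion (pullback.lift (𝟙 X) f (Category.id_comp (f ≫ g))
      : X ⟶ pullback (f ≫ g) g) := by
    have : IsClosedImmersion (pullback.lift (𝟙 X) f (Category.id_comp (f ≫ g)) ≫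
      pullback.fst (f ≫ g) g) := by rw [pullback.lift_fst]; infer_instance
    exact .of_comp _ (pullback.fst (f ≫ g) g)
  rw [← pullback.lift_snd (f := f ≫ g) (g := g) (𝟙 X) f (Category.id_comp _)]
  infer_instance

theorem universallyInjective_of_comp_surjective (f : X ⟶ Y) (g : Y ⟶ Z)
    [UniversallyInjective (f ≫ g)] [Surjective f] : UniversallyInjective g := by
  refine ⟨fun Y' Z' i₁ i₂ g' h y₁ y₂ hy ↦ ?_⟩
  have hsq := (IsPullback.of_hasPullback i₁ f).paste_horiz h
  have hfst : Surjective (pullback.fst i₁ f) := MorphismProperty.pullback_fst _ _ ‹_›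
  obtain ⟨x₁, rfl⟩ := (pullback.fst i₁ f).surjective y₁
  obtain ⟨x₂, rfl⟩ := (pullback.fst i₁ f).surjective y₂
  have := UniversallyInjective.universally_injective (f := f ≫ g) _ _ _ hsq
  exact congrArg _ (this (by simpa using hy))

theorem isUnivHomeo_comp (f : X ⟶ Y) (g : Y ⟶ Z) (hf : FlatMor.IsUnivHomeo f)
    (hg : FlatMor.IsUnivHomeo g) : FlatMor.IsUnivHomeo (f ≫ g) := by
  obtain ⟨_, _, _⟩ := (isUnivHomeo_iff f).mp hf
  obtain ⟨_, _, _⟩ := (isUnivHomeo_iff g).mp hg
  have : UniversallyInjective (f ≫ g) :=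
    MorphismProperty.comp_mem _ f g ‹UniversallyInjective f› ‹UniversallyInjective g›
  exact isUnivHomeo_of _

/-- Right cancellation for universal homeomorphisms. -/
theorem isUnivHomeo_of_comp_right (f : X ⟶ Y) (g : Y ⟶ Z) [IsSeparated g]
    (h : FlatMor.IsUnivHomeo (f ≫ g)) (hg : FlatMor.IsUnivHomeo g) : FlatMor.IsUnivHomeo f := by
  obtain ⟨h1, h2, h3⟩ := (isUnivHomeo_iff _).mp h
  obtain ⟨_, _, _⟩ := (isUnivHomeo_iff g).mp hg
  have : UniversallyClosed f := universallyClosed_of_comp f g
  have : UniversallyInjective f := universallyInjective_of_comp f g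
  have : Surjective f := ⟨fun y ↦ by
    obtain ⟨x, hx⟩ := (f ≫ g).surjective (g y)
    exact ⟨x, g.injective (by simpa using hx)⟩⟩
  exact isUnivHomeo_of f

variable (p : ℕ) [Fact p.Prime]

section Frob

variable (X) [FrobSch.IsCharP X p]

omit [Fact p.Prime] in
theorem isCharP_opens (U : X.Opens) : FrobSch.IsCharP U.toScheme p :=
  FrobSch.IsCharP.of_hom U.ι p

instance isAffineHom_frob : IsAffineHom (FrobSch.frob X p) := ⟨fun _ hU ↦ hU⟩

instance isIntegralHom_frob : IsIntegralHom (FrobSch.frob X p) where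
  isIntegral_app U _ x := by
    let := ((FrobSch.frob X p).app U).hom.toAlgebra
    exact IsIntegral.of_pow (R := Γ(X, U)) (Fact.out : p.Prime).pos
      ((FrobSch.frob_app X p U x) ▸ (isIntegral_algebraMap (R := Γ(X, U)) (x := x)))

instance surjective_frob : Surjective (FrobSch.frob X p) := ⟨fun x ↦ ⟨x, rfl⟩⟩

instance universallyInjective_frob : UniversallyInjective (FrobSch.frob X p) := by
  refine ((tfae_universallyInjective (FrobSch.frob X p)).out 1 0).mp ?_
  intro K _ g₁ g₂ hg
  have := FrobSch.IsCharP.of_hom g₁ p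
  have : Flat (FrobSch.frob (Spec (.of K)) p) := inferInstance
  have := Flat.epi_of_flat_of_surjective (FrobSch.frob (Spec (.of K)) p)
  rw [← cancel_epi (FrobSch.frob (Spec (.of K)) p), FrobSch.frob_comp, FrobSch.frob_comp]
  exact hg

theorem isUnivHomeo_frob : FlatMor.IsUnivHomeo (FrobSch.frob X p) := isUnivHomeo_of _

end Frob

section RelFrob

variable {S : Scheme.{u}} [FrobSch.IsCharP S p] (f : X ⟶ S)

theorem isIntegralHom_relFrob : IsIntegralHom (FrobSch.relFrob f p) := by
  have := FrobSch.IsCharP.of_hom f p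
  have : IsIntegralHom (FrobSch.relFrob f p ≫ pullback.fst f (FrobSch.frob S p)) := by
    rw [FrobSch.relFrob_fst]; infer_instance
  exact .of_comp _ (pullback.fst f (FrobSch.frob S p))

theorem isUnivHomeo_relFrob : FlatMor.IsUnivHomeo (FrobSch.relFrob f p) := by
  have := FrobSch.IsCharP.of_hom f p
  apply isUnivHomeo_of_comp_right _ (pullback.fst f (FrobSch.frob S p))
  · rw [FrobSch.relFrob_fst]; exact isUnivHomeo_frob X p
  · have : UniversallyInjective (pullback.fst f (FrobSch.frob S p)) :=
      MorphismProperty.pullback_fst _ _ inferInstance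
    exact isUnivHomeo_of _

theorem isFinite_relFrob [LocallyOfFiniteType f] : IsFinite (FrobSch.relFrob f p) := by
  have := isIntegralHom_relFrob p f
  have : LocallyOfFiniteType (FrobSch.relFrob f p ≫ pullback.snd f (FrobSch.frob S p)) := by
    rw [FrobSch.relFrob_snd]; infer_instance
  have := locallyOfFiniteType_of_comp (FrobSch.relFrob f p) (pullback.snd f (FrobSch.frob S p))
  exact (IsFinite.iff_isIntegralHom_and_locallyOfFiniteType _).mpr ⟨inferInstance, inferInstance⟩

end RelFrob

end GrothLib.Frob
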