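import Groth.Agent.Lib.Frob.Basic
import Mathlib.AlgebraicGeometry.AffineScheme
import Mathlib.FieldTheory.PerfectClosure
import Mathlib.FieldTheory.IsAlgClosed.Basic

/-!
# Perfect schemes and the structure of perfections
-/

universe u

open CategoryTheory CategoryTheory.Limits AlgebraicGeometry Opposite

namespace GrothLib.Frob

variable (p : ℕ) [Fact p.Prime] {X Y Z XP : Scheme.{u}}

/-- A morphism into an affine scheme is injective on `p`-th powers iff ... : the ring of sections of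
a perfect scheme over any open has bijective `p`-th power map. -/
theorem bijective_pow_of_isPerfect [FrobSch.IsCharP X p] (h : FrobSch.IsPerfect X p)
    (U : X.Opens) : Function.Bijective (fun s : Γ(X, U) ↦ s ^ p) := by
  have : IsIso ((FrobSch.frob X p).app U) := inferInstance
  exact ConcreteCategory.bijective_of_isIso ((FrobSch.frob X p).app U)

theorem bijective_pow_pow_of_isPerfect [FrobSch.IsCharP X p] (h : FrobSch.IsPerfect X p)
    (U : X.Opens) (n : ℕ) : Function.Bijective (fun s : Γ(X, U) ↦ s ^ p ^ n) := by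
  induction n with
  | zero => simp; exact Function.bijective_id
  | succ n ih =>
    convert (bijective_pow_of_isPerfect p h U).comp ih using 1
    funext s
    simp [pow_succ, pow_mul]

theorem isPerfect_opens [FrobSch.IsCharP X p] (h : FrobSch.IsPerfect X p) (U : X.Opens)
    [FrobSch.IsCharP U.toScheme p] : FrobSch.IsPerfect U.toScheme p := by
  have hh : U.ι ≫ FrobSch.frob X p = FrobSch.frob U.toScheme p ≫ U.ι :=
    (FrobSch.frob_comp p U.ι).symm
  have : IsOpenImmersion (FrobSch.frob U.toScheme p ≫ U.ι) := by rw [← hh]; infer_instance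
  have := IsOpenImmersion.of_comp (FrobSch.frob U.toScheme p) U.ι
  have : Epi (FrobSch.frob U.toScheme p).base := by rw [FrobSch.frob_base]; infer_instance
  exact IsOpenImmersion.isIso _

/-- `Spec` of a perfect ring is perfect. -/
theorem isPerfect_Spec (R : Type u) [CommRing R] [FrobSch.IsCharP (Spec (.of R)) p]
    (h0 : (p : R) = 0) (h : Function.Bijective (fun s : R ↦ s ^ p)) :
    FrobSch.IsPerfect (Spec (.of R)) p := by
  have : IsIso (CommRingCat.ofHom (FrobSch.powHom p R h0)) :=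
    (ConcreteCategory.isIso_iff_bijective _).mpr h
  suffices FrobSch.frob (Spec (.of R)) p = Spec.map (CommRingCat.ofHom (FrobSch.powHom p R h0)) by
    rw [FrobSch.IsPerfect, this]; infer_instance
  apply ext_of_isAffine
  apply (cancel_mono (Scheme.ΓSpecIso (.of R)).hom).mp
  rw [Scheme.ΓSpecIso_naturality]
  ext s
  simp

variable {p}

/-- Affine perfection. -/
theorem exists_perfection_ring (R : Type u) [CommRing R] (h0 : (p : R) = 0) :
    ∃ (B : Type u) (_ : CommRing B) (i : R →+* B), Function.Bijective (fun s : B ↦ s ^ p) ∧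
      (∀ b, ∃ n a, i a = b ^ p ^ n) ∧ (∀ a, i a = 0 → ∃ n, a ^ p ^ n = 0) ∧
      ∀ (L : Type u) [CommRing L], Function.Bijective (fun s : L ↦ s ^ p) →
        Function.Bijective (fun g : B →+* L ↦ g.comp i) := by
  rcases subsingleton_or_nontrivial R with hR | hR
  · refine ⟨R, inferInstance, .id R, ⟨fun a b _ ↦ Subsingleton.elim a b, fun a ↦ ⟨a, Subsingleton.elim _ _⟩⟩, fun b ↦ ⟨0, b, by simp⟩,
      fun a _ ↦ ⟨0, Subsingleton.elim _ _⟩, fun L _ _ ↦ ?_⟩
    simp; exact Function.bijective_id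
  have : CharP R p := (CharP.charP_iff_prime_eq_zero Fact.out).2 h0
  refine ⟨PerfectClosure R p, inferInstance, PerfectClosure.of R p, bijective_frobenius _ p,
    fun b ↦ ?_, fun a ha ↦ ?_, fun L _ hL ↦ ?_⟩
  · induction b using PerfectClosure.induction_on with
    | h x => exact ⟨x.1, x.2, by rw [← iterate_frobenius, PerfectClosure.iterate_frobenius_mk]⟩
  · obtain ⟨n, hn⟩ := (PerfectClosure.mk_eq_iff R p (0, a) (0, 0)).mp ha
    exact ⟨n, by simpa [iterate_map_zero, iterate_frobenius] using hn⟩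
  rcases subsingleton_or_nontrivial L with hL' | hL'
  · refine ⟨fun _ _ _ ↦ RingHom.ext fun _ ↦ Subsingleton.elim _ _, fun g ↦ ?_⟩
    have : Subsingleton L := hL'
    exact ⟨⟨⟨⟨fun _ ↦ 0, Subsingleton.elim _ _⟩, fun _ _ ↦ Subsingleton.elim _ _⟩,
      Subsingleton.elim _ _, fun _ _ ↦ Subsingleton.elim _ _⟩, RingHom.ext fun _ ↦ Subsingleton.elim _ _⟩
  by_cases hpL : (p : L) = 0
  · have : CharP L p := (CharP.charP_iff_prime_eq_zero Fact.out).2 hpL
    have : PerfectRing L p := ⟨hL⟩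
    exact (PerfectClosure.lift R p L).symm.bijective
  · refine ⟨fun g _ _ ↦ (hpL ?_).elim, fun g ↦ (hpL ?_).elim⟩
    · rw [← map_natCast g, CharP.cast_eq_zero, map_zero]
    · rw [← map_natCast g, h0, map_zero]

variable (p) in
/-- The structure of a perfection: affine, and radical on sections. -/
structure IsPerfStruct (π : XP ⟶ X) : Prop where
  affine : IsAffineHom π
  exists_pow : ∀ U : X.Opens, IsAffineOpen U → ∀ b : Γ(XP, π ⁻¹ᵁ U),
    ∃ n a, π.app U a = b ^ p ^ n
  exists_pow_eq_zero : ∀ U : X.Opens, IsAffineOpen U → ∀ a : Γ(X, U),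
    π.app U a = 0 → ∃ n, a ^ p ^ n = 0

theorem isPerfection_restrict [FrobSch.IsCharP XP p] {π : XP ⟶ X}
    (h : FrobSch.IsPerfection π p) (U : X.Opens) [FrobSch.IsCharP (π ⁻¹ᵁ U).toScheme p] :
    FrobSch.IsPerfection (π ∣_ U) p := by
  refine ⟨isPerfect_opens p h.1 _, fun T _ hT ↦ ⟨fun g₁ g₂ hg ↦ ?_, fun g ↦ ?_⟩⟩
  · rw [← cancel_mono (π ⁻¹ᵁ U).ι]
    apply (h.2 T hT).1
    simpa [← morphismRestrict_ι] using congr($hg ≫ U.ι)
  · obtain ⟨g', hg'⟩ := (h.2 T hT).2 (g ≫ U.ι)
    have hsq := isPullback_morphismRestrict π U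
    exact ⟨hsq.lift g g' (by simpa using hg'.symm), hsq.lift_fst _ _ _⟩

theorem exists_iso_of_isPerfection {A B : Scheme.{u}} {π₁ : A ⟶ X} {π₂ : B ⟶ X}
    [FrobSch.IsCharP A p] [FrobSch.IsCharP B p]
    (h₁ : FrobSch.IsPerfection π₁ p) (h₂ : FrobSch.IsPerfection π₂ p) :
    ∃ e : A ≅ B, e.hom ≫ π₂ = π₁ := by
  obtain ⟨f, hf⟩ := (h₂.2 A h₁.1).2 π₁
  obtain ⟨g, hg⟩ := (h₁.2 B h₂.1).2 π₂
  dsimp at hf hg
  exact ⟨⟨f, g, (h₁.2 A h₁.1).1 (by simp [hf, hg]), (h₂.2 B h₂.1).1 (by simp [hf, hg])⟩, hf⟩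

variable [FrobSch.IsCharP X p] [FrobSch.IsCharP XP p] {π : XP ⟶ X}

theorem isPerfStruct_of_isPerfection (h : FrobSch.IsPerfection π p) : IsPerfStruct p π := by
  suffices H : ∀ U : X.Opens, IsAffineOpen U → IsAffineOpen (π ⁻¹ᵁ U) ∧
      (∀ b : Γ(XP, π ⁻¹ᵁ U), ∃ n a, π.app U a = b ^ p ^ n) ∧
      ∀ a : Γ(X, U), π.app U a = 0 → ∃ n, a ^ p ^ n = 0 from
    ⟨⟨fun U hU ↦ (H U hU).1⟩, fun U hU ↦ (H U hU).2.1, fun U hU ↦ (H U hU).2.2⟩
  intro U hU
  have h0 := FrobSch.natCast_eq_zero_app X p U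
  obtain ⟨B, _, i, hB, hpow, hker, huniv⟩ := exists_perfection_ring (p := p) Γ(X, U) h0
  have hB0 : (p : B) = 0 := by rw [← map_natCast i, h0, map_zero]
  let π₀ : Spec (.of B) ⟶ U.toScheme := Spec.map (CommRingCat.ofHom i) ≫ hU.isoSpec.inv
  have := isCharP_opens X p U
  have := FrobSch.IsCharP.of_hom π₀ p
  have := isCharP_opens XP p (π ⁻¹ᵁ U)
  have hπ₀ : FrobSch.IsPerfection π₀ p := by
    refine ⟨isPerfect_Spec p B hB0 hB, fun T _ hT ↦ ?_⟩
    have hb := huniv Γ(T, ⊤) (bijective_pow_of_isPerfect p hT ⊤)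
    let eB := (ΓSpec.adjunction.homEquiv T (op (CommRingCat.of B))).symm
    let eR := (ΓSpec.adjunction.homEquiv T (op Γ(X, U))).symm
    let eU : (T ⟶ U.toScheme) ≃ (T ⟶ Spec Γ(X, U)) :=
      Iso.homToEquiv hU.isoSpec
    refine (Function.Bijective.of_comp_iff' (eR.bijective.comp eU.bijective) _).mp ?_
    have key : (eR ∘ eU) ∘ (fun g : T ⟶ Spec (.of B) ↦ g ≫ π₀) =
        ((fun q : Γ(X, U) →+* Γ(T, ⊤) ↦ (CommRingCat.ofHom q).op) ∘ (fun g ↦ g.comp i) ∘
          (fun q ↦ q.unop.hom) ∘ eB) := by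
      funext g
      simp only [Function.comp_apply, π₀, eU, Iso.homToEquiv_apply, Category.assoc, Iso.inv_hom_id, Category.comp_id, eR, eB]
      erw [Adjunction.homEquiv_naturality_right_symm]
      rfl
    rw [key]
    exact Function.Bijective.comp ⟨fun a b hab ↦ by simpa using congr($(hab).unop.hom),
      fun q ↦ ⟨q.unop.hom, rfl⟩⟩ (hb.comp (Function.Bijective.comp
      ⟨fun a b hab ↦ Quiver.Hom.unop_inj (CommRingCat.hom_ext hab),
      fun q ↦ ⟨(CommRingCat.ofHom q).op, rfl⟩⟩ eB.bijective))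
  obtain ⟨e, he⟩ := exists_iso_of_isPerfection (isPerfection_restrict h U) hπ₀
  refine ⟨IsAffine.of_isIso e.hom, ?_⟩
  have : IsIso e.hom.appTop := inferInstanceAs (IsIso (Scheme.Γ.map e.hom.op))
  let E : CommRingCat.of B ≅ Γ(XP, π ⁻¹ᵁ U) :=
    (Scheme.ΓSpecIso (.of B)).symm ≪≫ asIso e.hom.appTop ≪≫ (π ⁻¹ᵁ U).topIso
  have key : π.app U = CommRingCat.ofHom i ≫ E.hom := by
    have hres : π.app U = U.topIso.inv ≫ (π ∣_ U).appTop ≫ (π ⁻¹ᵁ U).topIso.hom := by
      simp [Scheme.Hom.app_eq_appLE]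
      erw [Scheme.Hom.appLE_map, Scheme.Hom.map_appLE]
    rw [hres, ← he]
    simp only [π₀, Scheme.Hom.comp_appTop, E, Iso.trans_hom, Iso.symm_hom, asIso_hom,
      IsAffineOpen.isoSpec_inv_appTop, Category.assoc, Iso.inv_hom_id_assoc, asIso_hom]
    rw [← Scheme.ΓSpecIso_inv_naturality_assoc]
  have hinj : Function.Injective E.hom := (ConcreteCategory.bijective_of_isIso E.hom).1
  refine ⟨fun b ↦ ?_, fun a ha ↦ hker a (hinj ?_)⟩
  · obtain ⟨n, a, ha⟩ := hpow (E.inv b)
    refine ⟨n, a, ?_⟩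
    rw [key]
    simp [ha]
  · rw [map_zero, ← ha, key]; rfl

omit [FrobSch.IsCharP X p] [FrobSch.IsCharP XP p] in
theorem isPerfect_Spec_algClosed (K : Type u) [Field K] [IsAlgClosed K]
    [FrobSch.IsCharP (Spec (.of K)) p] : FrobSch.IsPerfect (Spec (.of K)) p := by
  have h0 : (p : K) = 0 := by
    simpa using congr((Scheme.ΓSpecIso (.of K)).hom $(FrobSch.IsCharP.natCast_eq_zero
      (X := Spec (.of K)) (p := p)))
  have : CharP K p := (CharP.charP_iff_prime_eq_zero Fact.out).2 h0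
  exact isPerfect_Spec p K h0 (bijective_frobenius K p)

omit [FrobSch.IsCharP X p] in
theorem universallyInjective_of_isPerfection (h : FrobSch.IsPerfection π p) :
    UniversallyInjective π := by
  refine universallyInjective_of_algClosed π fun K _ _ g₁ g₂ hg ↦ ?_
  have := FrobSch.IsCharP.of_hom g₁ p
  exact (h.2 _ (isPerfect_Spec_algClosed K)).1 hg

theorem surjective_of_isPerfection (h : FrobSch.IsPerfection π p) : Surjective π := by
  refine ⟨fun x ↦ ?_⟩
  let K := AlgebraicClosure (X.residueField x)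
  let g : Spec (.of K) ⟶ X :=
    Spec.map (CommRingCat.ofHom (algebraMap (X.residueField x) K)) ≫ X.fromSpecResidueField x
  have := FrobSch.IsCharP.of_hom g p
  obtain ⟨g', hg'⟩ := (h.2 _ (isPerfect_Spec_algClosed K)).2 g
  refine ⟨g' (IsLocalRing.closedPoint K), ?_⟩
  have h2 := congr($hg' (IsLocalRing.closedPoint K))
  simp only [g, Scheme.Hom.comp_apply] at h2
  exact h2.trans (X.fromSpecResidueField_apply _ _)

theorem isIntegralHom_of_isPerfection (h : FrobSch.IsPerfection π p) : IsIntegralHom π := by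
  have hs := isPerfStruct_of_isPerfection h
  have := hs.affine
  refine ⟨fun U hU b ↦ ?_⟩
  obtain ⟨n, a, ha⟩ := hs.exists_pow U hU b
  let := (π.app U).hom.toAlgebra
  exact IsIntegral.of_pow (R := Γ(X, U)) (pow_pos (Fact.out : p.Prime).pos n)
    (ha ▸ (isIntegral_algebraMap (R := Γ(X, U)) (x := a)))

theorem isUnivHomeo_of_isPerfection (h : FrobSch.IsPerfection π p) : FlatMor.IsUnivHomeo π := by
  have := isIntegralHom_of_isPerfection h
  have := universallyInjective_of_isPerfection h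
  have := surjective_of_isPerfection h
  exact isUnivHomeo_of π

end GrothLib.Frob
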