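import Groth.Prelude.Def_FrobAlg
import Mathlib.RingTheory.Etale.Basic
import Mathlib.RingTheory.Unramified.Finite
import Mathlib.RingTheory.RingHom.Etale
import Mathlib.RingTheory.Smooth.Flat
import Mathlib.RingTheory.Flat.EquationalCriterion
import Mathlib.Algebra.Algebra.Epi
import Mathlib.Algebra.CharP.Frobenius

/-!
# The relative Frobenius of an étale algebra is bijective
-/

namespace GrothLib.Frob

universe u v

open TensorProduct

/-- An étale algebra all of whose `p`-th powers come from the base, in characteristic `p`, with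
nilpotent kernel, is equal to the base. -/
theorem bijective_of_etale_of_pow {R : Type u} {S : Type v} [CommRing R] [CommRing S] [Algebra R S]
    [Algebra.Etale R S] (p : ℕ) [Fact p.Prime] (h0 : (p : S) = 0)
    (hpow : ∀ s : S, ∃ r : R, algebraMap R S r = s ^ p)
    (hker : ∀ r : R, algebraMap R S r = 0 → IsNilpotent r) :
    Function.Bijective (algebraMap R S) := by
  have hp := (Fact.out : p.Prime).ne_zero
  haveI : Algebra.IsIntegral R S := ⟨fun s => by
    obtain ⟨r, hr⟩ := hpow s
    exact IsIntegral.of_pow (Nat.pos_of_ne_zero hp) (hr ▸ isIntegral_algebraMap)⟩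
  haveI : Module.Finite R S := Algebra.IsIntegral.finite
  have key : ∀ s : S, (1 : S) ⊗ₜ[R] s = s ⊗ₜ[R] (1 : S) := by
    rcases subsingleton_or_nontrivial (S ⊗[R] S) with h | h
    · exact fun s => Subsingleton.elim _ _
    haveI : CharP (S ⊗[R] S) p := (CharP.charP_iff_prime_eq_zero Fact.out).mpr (by
      rw [← map_natCast (algebraMap S (S ⊗[R] S)), h0, map_zero])
    let e := Algebra.FormallyUnramified.elem R S
    have hnil : ∀ x : S ⊗[R] S, x - (Algebra.TensorProduct.lmul' R x) ⊗ₜ[R] (1 : S) ∈ nilradical (S ⊗[R] S) := by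
      intro x
      induction x using TensorProduct.induction_on with
      | zero => simp
      | add x y hx hy =>
        rw [map_add, add_tmul, add_sub_add_comm]
        exact add_mem hx hy
      | tmul a b =>
        rw [Algebra.TensorProduct.lmul'_apply_tmul, show a ⊗ₜ[R] b - (a * b) ⊗ₜ[R] (1 : S) =
          (a ⊗ₜ[R] (1 : S)) * ((1 : S) ⊗ₜ[R] b - b ⊗ₜ[R] (1 : S)) by
            rw [mul_sub, Algebra.TensorProduct.tmul_mul_tmul, Algebra.TensorProduct.tmul_mul_tmul]; simp]
        refine Ideal.mul_mem_left _ _ (mem_nilradical.2 ⟨p, ?_⟩)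
        obtain ⟨r, hr⟩ := hpow b
        rw [sub_pow_char, Algebra.TensorProduct.tmul_pow, Algebra.TensorProduct.tmul_pow, one_pow, ← hr,
          Algebra.algebraMap_eq_smul_one, TensorProduct.smul_tmul, sub_self]
    have he : IsUnit e := by
      have h1 := hnil e
      rw [Algebra.FormallyUnramified.lmul_elem, ← Algebra.TensorProduct.one_def, mem_nilradical] at h1
      simpa using h1.isUnit_one_add
    intro s
    refine he.mul_right_cancel ?_
    exact Algebra.FormallyUnramified.one_tmul_mul_elem (R := R) s
  have hsurj : Function.Surjective (algebraMap R S) :=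
    Algebra.isEpi_iff_surjective_algebraMap_of_finite.1 ((Algebra.isEpi_iff_forall_one_tmul_eq R S).2 key)
  refine ⟨?_, hsurj⟩
  rw [injective_iff_map_eq_zero]
  intro r hr
  have h : ∑ i : Fin 1, (fun _ => r) i • (fun _ => (1 : S)) i = 0 := by
    simp [← Algebra.algebraMap_eq_smul_one, hr]
  obtain ⟨κ, a, y, hy, hay⟩ := Module.Flat.iff_forall_isTrivialRelation.1 inferInstance h
  choose t ht using fun j => hsurj (y j)
  -- `1 = ∑ a_j t_j` up to a nilpotent, and each `a_j` annihilates `r`
  have h1 : algebraMap R S (1 - ∑ j, a 0 j * t j) = 0 := by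
    rw [map_sub, map_one, map_sum, sub_eq_zero]
    refine (hy 0).trans (Finset.sum_congr rfl fun j _ => ?_)
    rw [map_mul, ht, Algebra.smul_def]
  obtain ⟨m, hm⟩ := hker _ h1
  have hr0 : r * (∑ j, a 0 j * t j) = 0 := by
    rw [Finset.mul_sum]
    refine Finset.sum_eq_zero fun j _ => ?_
    have := hay j
    simp only [Fin.sum_univ_one] at this
    rw [← mul_assoc, this, zero_mul]
  have : ∀ n, r * (1 - ∑ j, a 0 j * t j) ^ n = r := fun n => by
    induction n with
    | zero => simp
    | succ n ih => rw [pow_succ, ← mul_assoc, ih, mul_sub, hr0, sub_zero, mul_one]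
  rw [← this m, hm, mul_zero]

theorem etale_of_comp {P Q S : Type*} [CommRing P] [CommRing Q] [CommRing S] {f : P →+* Q} {g : Q →+* S}
    (hf : f.Etale) (hgf : (g.comp f).Etale) : g.Etale := by
  letI := f.toAlgebra
  letI := g.toAlgebra
  letI := (g.comp f).toAlgebra
  haveI : IsScalarTower P Q S := IsScalarTower.of_algebraMap_eq fun _ => rfl
  haveI : Algebra.Etale P Q := hf
  haveI : Algebra.Etale P S := hgf
  exact Algebra.Etale.of_restrictScalars P Q S

variable (p : ℕ) [Fact p.Prime] (A : Type u) [CommRing A] [CharP A p]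
  (B : Type u) [CommRing B] [Algebra A B] [CharP B p]

theorem relFrob_tmul (b : B) (a : FrobAlg.Twist p A) :
    FrobAlg.relFrob p A B (b ⊗ₜ a) = b ^ p * algebraMap A B ((FrobAlg.toTwist p A).symm a) := by
  simp [FrobAlg.relFrob, FrobAlg.frobHom, FrobAlg.inclHom, frobenius_def]

theorem relFrob_ker {x : FrobAlg.BaseChange p A B} (hx : FrobAlg.relFrob p A B x = 0) : x ^ p = 0 := by
  have key : ∀ x : FrobAlg.BaseChange p A B,
      x ^ p = (FrobAlg.relFrob p A B x) ⊗ₜ[A] (1 : FrobAlg.Twist p A) := by
    intro x
    induction x using TensorProduct.induction_on with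
    | zero => simp [zero_pow (Fact.out : p.Prime).ne_zero]
    | add x y hx hy =>
      obtain ⟨r, hr⟩ := exists_add_pow_prime_eq (Fact.out : p.Prime) x y
      rw [hr, show (p : FrobAlg.BaseChange p A B) = 0 by
          rw [← map_natCast (algebraMap A (FrobAlg.BaseChange p A B)), CharP.cast_eq_zero A p, map_zero],
        zero_mul, zero_mul, zero_mul, add_zero, hx, hy, map_add, TensorProduct.add_tmul]
    | tmul b a =>
      have ht : a ^ p = algebraMap A (FrobAlg.Twist p A) ((FrobAlg.toTwist p A).symm a) := by
        rw [FrobAlg.algebraMap_twist, map_pow, RingEquiv.apply_symm_apply]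
      rw [Algebra.TensorProduct.tmul_pow, ht, relFrob_tmul, Algebra.algebraMap_eq_smul_one, TensorProduct.tmul_smul,
        TensorProduct.smul_tmul', ← Algebra.commutes, ← Algebra.smul_def]
  rw [key x, hx, TensorProduct.zero_tmul]

/-- The relative Frobenius of an étale algebra is bijective. -/
theorem bijective_relFrob [Algebra.Etale A B] : Function.Bijective (FrobAlg.relFrob p A B) := by
  let f : FrobAlg.Twist p A →+* FrobAlg.BaseChange p A B := algebraMap _ _
  have hf : f.Etale := by
    rw [RingHom.etale_algebraMap]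
    exact Algebra.Etale.of_equiv
      { Algebra.TensorProduct.comm A (FrobAlg.Twist p A) B with
        commutes' := fun a => by
          change Algebra.TensorProduct.comm A (FrobAlg.Twist p A) B (a ⊗ₜ[A] 1) = (1 : B) ⊗ₜ[A] a
          rw [Algebra.TensorProduct.comm_tmul] }
  have hcomp : (FrobAlg.relFrob p A B).comp f =
      (algebraMap A B).comp ((FrobAlg.toTwist p A).symm : FrobAlg.Twist p A →+* A) := RingHom.ext fun a => by
    change FrobAlg.relFrob p A B ((1 : B) ⊗ₜ[A] a) = _
    rw [relFrob_tmul, one_pow, one_mul]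
    rfl
  have hg : (FrobAlg.relFrob p A B).Etale := etale_of_comp hf <| by
    rw [hcomp]
    exact RingHom.Etale.stableUnderComposition _ _
      (RingHom.Etale.of_bijective (f := ((FrobAlg.toTwist p A).symm : FrobAlg.Twist p A →+* A)) (FrobAlg.toTwist p A).symm.bijective) (RingHom.etale_algebraMap.2 ‹Algebra.Etale A B›)
  letI : Algebra (FrobAlg.BaseChange p A B) B := (FrobAlg.relFrob p A B).toAlgebra
  haveI : Algebra.Etale (FrobAlg.BaseChange p A B) B := hg
  exact bijective_of_etale_of_pow (R := FrobAlg.BaseChange p A B) (S := B) p (CharP.cast_eq_zero B p)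
    (fun s => ⟨s ⊗ₜ[A] 1, by
      change FrobAlg.relFrob p A B _ = _
      rw [relFrob_tmul, map_one, map_one, mul_one]⟩)
    (fun x hx => ⟨p, relFrob_ker p A B hx⟩)

end GrothLib.Frob
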