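import Groth.Agent.Lib.Frob.Radical
import Mathlib.AlgebraicGeometry.Morphisms.Immersion
import Mathlib.RingTheory.Flat.EquationalCriterion

/-!
# Perfections of morphisms
-/

universe u

open CategoryTheory CategoryTheory.Limits AlgebraicGeometry Opposite TopologicalSpace MorphismProperty

namespace GrothLib.Frob

section Cancel

variable {X' X Y : Scheme.{u}} (π : X' ⟶ X) (f : X ⟶ Y)

theorem quasiCompact_of_comp_surjective [QuasiCompact (π ≫ f)] [Surjective π] : QuasiCompact f := by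
  refine ⟨fun U hU hc ↦ ?_⟩
  have := (QuasiCompact.isCompact_preimage (f := π ≫ f) U hU hc).image π.continuous
  rwa [show π '' ((π ≫ f) ⁻¹' U) = f ⁻¹' U by
    rw [Scheme.Hom.comp_base, TopCat.coe_comp, Set.preimage_comp]
    exact Set.image_preimage_eq _ π.surjective] at this

theorem diagonal_comp_map : π ≫ pullback.diagonal f =
    pullback.diagonal (π ≫ f) ≫ pullback.map (π ≫ f) (π ≫ f) f f π π (𝟙 Y)
      (Category.comp_id _) (Category.comp_id _) := by
  apply pullback.hom_ext <;>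
    simp only [Category.assoc, pullback.map, pullback.diagonal_fst, pullback.diagonal_snd,
      Category.comp_id] <;>
    first | (erw [pullback.lift_fst]; simp) | (erw [pullback.lift_snd]; simp)

theorem quasiSeparated_of_comp_surjective [QuasiSeparated (π ≫ f)] [Surjective π]
    [QuasiCompact π] : QuasiSeparated f := by
  have : QuasiCompact (π ≫ pullback.diagonal f) := by
    rw [diagonal_comp_map]
    have : QuasiCompact (pullback.map (π ≫ f) (π ≫ f) f f π π (𝟙 Y)
      (Category.comp_id _) (Category.comp_id _)) := MorphismProperty.pullbackMap ‹_› ‹_› rfl rfl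
    infer_instance
  exact ⟨quasiCompact_of_comp_surjective π _⟩

theorem isSeparated_of_comp_surjective [IsSeparated (π ≫ f)] [Surjective π]
    [UniversallyClosed π] : IsSeparated f := by
  have : UniversallyClosed (π ≫ pullback.diagonal f) := by
    rw [diagonal_comp_map]
    have : UniversallyClosed (pullback.map (π ≫ f) (π ≫ f) f f π π (𝟙 Y)
      (Category.comp_id _) (Category.comp_id _)) := MorphismProperty.pullbackMap ‹_› ‹_› rfl rfl
    infer_instance
  have := UniversallyClosed.of_comp_surjective π (pullback.diagonal f)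
  exact ⟨IsClosedImmersion.of_isPreimmersion _ (pullback.diagonal f).isClosedMap.isClosed_range⟩

end Cancel

/-- Radical maps of perfect rings preserve flatness. -/
theorem flat_of_radical {p : ℕ} [Fact p.Prime] {A B A' B' : Type u} [CommRing A] [CommRing B] [CommRing A'] [CommRing B']
    (φ : A →+* B) (φ' : A' →+* B') (i : A →+* A') (j : B →+* B')
    (hcomm : φ'.comp i = j.comp φ) (hA : ∀ (n : ℕ), Function.Bijective (fun a : A' ↦ a ^ p ^ n))
    (hB : ∀ (n : ℕ), Function.Bijective (fun b : B' ↦ b ^ p ^ n)) (h0 : (p : B) = 0) (hA0 : (p : A') = 0)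
    (hi : ∀ a, ∃ n x, i x = a ^ p ^ n) (hj : ∀ b, ∃ n x, j x = b ^ p ^ n)
    (hjker : ∀ x, j x = 0 → ∃ n, x ^ p ^ n = 0) (hφ : φ.Flat) : φ'.Flat := by
  algebraize [φ, φ']
  refine Module.Flat.iff_forall_isTrivialRelation.mpr fun {l} {r} {x} hrx ↦ ?_
  choose n₁ a ha using fun k ↦ hi (r k)
  choose n₂ b hb using fun k ↦ hj (x k)
  have hp := (Fact.out : p.Prime).pos
  rcases subsingleton_or_nontrivial B' with hB' | hB'
  · exact ⟨0, 0, Fin.elim0, fun _ ↦ Subsingleton.elim _ _, fun j ↦ j.elim0⟩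
  have : Nontrivial B := j.domain_nontrivial
  have : CharP B p := (CharP.charP_iff_prime_eq_zero Fact.out).2 h0
  have : CharP B' p := (CharP.charP_iff_prime_eq_zero Fact.out).2 (by
    rw [← map_natCast j, h0, map_zero])
  let N := ∑ k, n₁ k + ∑ k, n₂ k
  have hn₁ : ∀ k, ∃ c, n₁ k + c = N := fun k ↦ Nat.exists_eq_add_of_le
    ((Finset.single_le_sum (fun _ _ ↦ Nat.zero_le _) (Finset.mem_univ k)).trans
      (Nat.le_add_right _ _)) |>.imp fun _ h ↦ h.symm
  have hn₂ : ∀ k, ∃ c, n₂ k + c = N := fun k ↦ Nat.exists_eq_add_of_le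
    ((Finset.single_le_sum (fun _ _ ↦ Nat.zero_le _) (Finset.mem_univ k)).trans
      (Nat.le_add_left _ _)) |>.imp fun _ h ↦ h.symm
  choose c₁ hc₁ using hn₁
  choose c₂ hc₂ using hn₂
  have hA' : ∀ k, i (a k ^ p ^ c₁ k) = r k ^ p ^ N := fun k ↦ by
    rw [map_pow, ha, ← pow_mul, ← pow_add, hc₁]
  have hB'' : ∀ k, j (b k ^ p ^ c₂ k) = x k ^ p ^ N := fun k ↦ by
    rw [map_pow, hb, ← pow_mul, ← pow_add, hc₂]
  have hz : j (∑ k, φ (a k ^ p ^ c₁ k) * b k ^ p ^ c₂ k) = 0 := by
    simp only [map_sum, map_mul]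
    have hc : ∀ z, j (φ z) = φ' (i z) := fun z ↦ (RingHom.congr_fun hcomm z).symm
    simp only [hc, hA', hB'']
    simp only [map_pow, ← mul_pow, ← sum_pow_char_pow]
    simp only [Algebra.smul_def, RingHom.algebraMap_toAlgebra] at hrx
    rw [hrx, zero_pow (pow_pos hp _).ne']
  obtain ⟨M, hM⟩ := hjker _ hz
  rw [sum_pow_char_pow] at hM
  simp only [mul_pow, ← map_pow] at hM
  obtain ⟨κ, s, y, hy, hs⟩ := Module.Flat.isTrivialRelation_of_sum_smul_eq_zero (R := A) (M := B)
    (f := fun k ↦ (a k ^ p ^ c₁ k) ^ p ^ M) (x := fun k ↦ (b k ^ p ^ c₂ k) ^ p ^ M)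
    (by simpa [Algebra.smul_def, RingHom.algebraMap_toAlgebra] using hM)
  dsimp only at hy
  choose s' hs' using fun k q ↦ (hA (N + M)).2 (i (s k q))
  choose y' hy' using fun q ↦ (hB (N + M)).2 (j (y q))
  dsimp only at hs' hy'
  refine ⟨κ, s', y', fun k ↦ (hB (N + M)).1 ?_, fun q ↦ (hA (N + M)).1 ?_⟩
  · simp only [sum_pow_char_pow, Algebra.smul_def, mul_pow, RingHom.algebraMap_toAlgebra,
      ← map_pow φ', hs', hy']
    rw [pow_add, pow_mul, ← hB'', ← map_pow, hy k]
    simp only [map_sum, Algebra.smul_def, RingHom.algebraMap_toAlgebra, map_mul]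
    exact Finset.sum_congr rfl fun q _ ↦ by rw [← RingHom.comp_apply j φ, ← hcomm]; rfl
  · have h0' := congrArg i (hs q)
    rcases subsingleton_or_nontrivial A' with hA' | hA''
    · exact Subsingleton.elim _ _
    have : CharP A' p := (CharP.charP_iff_prime_eq_zero Fact.out).2 hA0
    simp only [sum_pow_char_pow, mul_pow, hs', zero_pow (pow_pos hp _).ne']
    simp only [map_sum, map_mul, map_zero] at h0'
    rw [← h0']
    exact Finset.sum_congr rfl fun k _ ↦ by rw [pow_add, pow_mul, ← hA']; simp only [map_pow]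


variable {p : ℕ} [Fact p.Prime] {X Y XP YP : Scheme.{u}}
  [FrobSch.IsCharP X p] [FrobSch.IsCharP Y p] [FrobSch.IsCharP XP p] [FrobSch.IsCharP YP p]
  {πX : XP ⟶ X} {πY : YP ⟶ Y} (hX : FrobSch.IsPerfection πX p) (hY : FrobSch.IsPerfection πY p)
  {f : X ⟶ Y} {fP : XP ⟶ YP} (w : fP ≫ πY = πX ≫ f)

include hX hY w

theorem quasiCompact_iff : QuasiCompact f ↔ QuasiCompact fP := by
  have := isIntegralHom_of_isPerfection hX
  have := isIntegralHom_of_isPerfection hY
  have := surjective_of_isPerfection hX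
  refine ⟨fun h ↦ ?_, fun h ↦ ?_⟩
  · have : QuasiCompact (fP ≫ πY) := by rw [w]; infer_instance
    exact .of_comp fP πY
  · have : QuasiCompact (πX ≫ f) := by rw [← w]; infer_instance
    exact quasiCompact_of_comp_surjective πX f

theorem quasiSeparated_iff : QuasiSeparated f ↔ QuasiSeparated fP := by
  have := isIntegralHom_of_isPerfection hX
  have := isIntegralHom_of_isPerfection hY
  have := surjective_of_isPerfection hX
  refine ⟨fun h ↦ ?_, fun h ↦ ?_⟩
  · have : QuasiSeparated (fP ≫ πY) := by rw [w]; infer_instance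
    exact .of_comp fP πY
  · have : QuasiSeparated (πX ≫ f) := by rw [← w]; infer_instance
    exact quasiSeparated_of_comp_surjective πX f

theorem isSeparated_iff : IsSeparated f ↔ IsSeparated fP := by
  have := isIntegralHom_of_isPerfection hX
  have := isIntegralHom_of_isPerfection hY
  have := surjective_of_isPerfection hX
  refine ⟨fun h ↦ ?_, fun h ↦ ?_⟩
  · have : IsSeparated (fP ≫ πY) := by rw [w]; infer_instance
    exact .of_comp fP πY
  · have : IsSeparated (πX ≫ f) := by rw [← w]; infer_instance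
    exact isSeparated_of_comp_surjective πX f

theorem universallyClosed_iff : UniversallyClosed f ↔ UniversallyClosed fP := by
  have := isIntegralHom_of_isPerfection hX
  have := isIntegralHom_of_isPerfection hY
  have := surjective_of_isPerfection hX
  refine ⟨fun h ↦ ?_, fun h ↦ ?_⟩
  · have : UniversallyClosed (fP ≫ πY) := by rw [w]; infer_instance
    exact universallyClosed_of_comp fP πY
  · have : UniversallyClosed (πX ≫ f) := by rw [← w]; infer_instance
    exact .of_comp_surjective πX f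

theorem isUnivHomeo_iff' : FlatMor.IsUnivHomeo f ↔ FlatMor.IsUnivHomeo fP := by
  have hX' := isUnivHomeo_of_isPerfection hX
  have hY' := isUnivHomeo_of_isPerfection hY
  have := isIntegralHom_of_isPerfection hY
  refine ⟨fun h ↦ isUnivHomeo_of_comp_right fP πY (w ▸ isUnivHomeo_comp _ _ hX' h) hY', fun h ↦ ?_⟩
  have h' : FlatMor.IsUnivHomeo (πX ≫ f) := w ▸ isUnivHomeo_comp _ _ h hY'
  obtain ⟨_, _, _⟩ := (isUnivHomeo_iff _).mp h'
  have := surjective_of_isPerfection hX
  have := UniversallyClosed.of_comp_surjective πX f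
  have := universallyInjective_of_comp_surjective πX f
  have := Surjective.of_comp πX f
  exact isUnivHomeo_of f

theorem isAffineHom_iff : IsAffineHom f ↔ IsAffineHom fP := by
  have := isIntegralHom_of_isPerfection hX
  have := isIntegralHom_of_isPerfection hY
  have := surjective_of_isPerfection hX
  refine ⟨fun h ↦ ?_, fun h ↦ ?_⟩
  · have : IsAffineHom (fP ≫ πY) := by rw [w]; infer_instance
    exact .of_comp fP πY
  · have : IsAffineHom (πX ≫ f) := by rw [← w]; infer_instance
    have := quasiCompact_of_comp_surjective πX f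
    have := quasiSeparated_of_comp_surjective πX f
    exact ⟨fun V hV ↦ (isPerfStruct_of_isPerfection hX).isAffineOpen_of_preimage πX.surjective
      (f ⁻¹ᵁ V) (f.isCompact_preimage hV.isCompact) (f.isQuasiSeparated_preimage hV.isQuasiSeparated)
      (hV.preimage (πX ≫ f))⟩

theorem isClosedImmersion [IsClosedImmersion f] : IsClosedImmersion fP := by
  have : IsAffineHom fP := (isAffineHom_iff hX hY w).mp inferInstance
  have := isIntegralHom_of_isPerfection hY
  have hs := isPerfStruct_of_isPerfection hX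
  refine (IsZariskiLocalAtTarget.iff_of_iSup_eq_top (P := @IsClosedImmersion)
    (fun V : Y.affineOpens ↦ πY ⁻¹ᵁ V.1) ?_).mpr fun V ↦ ?_
  · rw [← Scheme.Hom.preimage_iSup, iSup_affineOpens_eq_top]
    rfl
  have hV : IsAffineOpen (πY ⁻¹ᵁ V.1) := V.2.preimage πY
  have : IsAffine (πY ⁻¹ᵁ V.1).toScheme := hV
  have hW : fP ⁻¹ᵁ (πY ⁻¹ᵁ V.1) = πX ⁻¹ᵁ (f ⁻¹ᵁ V.1) := by
    rw [← Scheme.Hom.comp_preimage, w, Scheme.Hom.comp_preimage]
  have : IsAffine (fP ⁻¹ᵁ (πY ⁻¹ᵁ V.1)).toScheme := hV.preimage fP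
  apply IsClosedImmersion.of_surjective_of_isAffine
  suffices Function.Surjective (fP.app (πY ⁻¹ᵁ V.1)) by
    have hc : (fP ∣_ (πY ⁻¹ᵁ V.1)).appTop =
        (πY ⁻¹ᵁ V.1).topIso.hom ≫ fP.app (πY ⁻¹ᵁ V.1) ≫ (fP ⁻¹ᵁ πY ⁻¹ᵁ V.1).topIso.inv := by
      simp [Scheme.Hom.app_eq_appLE]
      erw [Scheme.Hom.appLE_map, Scheme.Hom.map_appLE]
    rw [hc]
    simp only [CommRingCat.hom_comp, RingHom.coe_comp]
    exact (ConcreteCategory.bijective_of_isIso (fP ⁻¹ᵁ πY ⁻¹ᵁ V.1).topIso.inv).2.comp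
      (this.comp (ConcreteCategory.bijective_of_isIso (πY ⁻¹ᵁ V.1).topIso.hom).2)
  intro b
  obtain ⟨n, a, ha⟩ := hs.exists_pow (f ⁻¹ᵁ V.1) (V.2.preimage f)
    (XP.presheaf.map (eqToHom hW.symm).op b)
  obtain ⟨c, rfl⟩ := f.app_surjective V.1 V.2 a
  obtain ⟨d, hd⟩ := (bijective_pow_pow_of_isPerfect p hY.1 _ n).2 (πY.app V.1 c)
  refine ⟨d, (bijective_pow_pow_of_isPerfect p hX.1 _ n).1 ?_⟩
  dsimp at hd ⊢
  rw [← map_pow, hd]
  have h1 : (fP ≫ πY).app V.1 = (πX ≫ f).app V.1 ≫ XP.presheaf.map (eqToHom hW).op := by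
    rw [Scheme.Hom.congr_app w V.1]
    rfl
  rw [Scheme.Hom.comp_app, Scheme.Hom.comp_app] at h1
  refine (congr($h1 c)).trans ?_
  show XP.presheaf.map _ (πX.app _ (f.app _ c)) = _
  rw [ha, map_pow, ← ConcreteCategory.comp_apply, ← Functor.map_comp]
  simp

theorem isOpenImmersion [IsOpenImmersion f] : IsOpenImmersion fP := by
  have := isCharP_opens YP p (πY ⁻¹ᵁ f.opensRange)
  have hres := isPerfection_restrict hY f.opensRange
  have hX' : FrobSch.IsPerfection (πX ≫ f.isoOpensRange.hom) p := by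
    refine ⟨hX.1, fun T _ hT ↦ ?_⟩
    simp only [← Category.assoc]
    exact (show Function.Bijective (fun q : T ⟶ X ↦ q ≫ f.isoOpensRange.hom) from
      (isIso_iff_yoneda_map_bijective _).mp inferInstance T).comp (hX.2 T hT)
  obtain ⟨e, he⟩ := exists_iso_of_isPerfection hX' hres
  have : e.hom ≫ (πY ⁻¹ᵁ f.opensRange).ι = fP := (hY.2 XP hX.1).1 (by
    show (e.hom ≫ (πY ⁻¹ᵁ f.opensRange).ι) ≫ πY = fP ≫ πY
    rw [Category.assoc, ← morphismRestrict_ι, reassoc_of% he, w]
    simp)
  rw [← this]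
  infer_instance

theorem flat [Flat f] : Flat fP := by
  have hsX := isPerfStruct_of_isPerfection hX
  have hsY := isPerfStruct_of_isPerfection hY
  have := hsX.affine
  have := hsY.affine
  refine (HasRingHomProperty.iff_exists_appLE (P := @Flat)
    (RingHom.Flat.stableUnderComposition.stableUnderCompositionWithLocalizationAway
      RingHom.Flat.holdsForLocalizationAway).1).mpr fun x ↦ ?_
  obtain ⟨V, hV, hxV, -⟩ := exists_isAffineOpen_mem_and_subset
    (x := f (πX x)) (U := ⊤) (Opens.mem_top _)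
  obtain ⟨U, hU, hxU, hUV⟩ := exists_isAffineOpen_mem_and_subset
    (x := πX x) (U := f ⁻¹ᵁ V) hxV
  have e : πX ⁻¹ᵁ U ≤ fP ⁻¹ᵁ (πY ⁻¹ᵁ V) := by
    rw [← Scheme.Hom.comp_preimage, w, Scheme.Hom.comp_preimage]
    exact πX.preimage_mono hUV
  refine ⟨⟨_, hV.preimage πY⟩, ⟨_, hU.preimage πX⟩, hxU, e, ?_⟩
  refine flat_of_radical (p := p) (f.appLE V U hUV).hom _ (πY.app V).hom (πX.app U).hom ?_
    (fun n ↦ bijective_pow_pow_of_isPerfect p hY.1 _ n)
    (fun n ↦ bijective_pow_pow_of_isPerfect p hX.1 _ n)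
    (FrobSch.natCast_eq_zero_app X p U) (FrobSch.natCast_eq_zero_app YP p _)
    (hsY.exists_pow V hV) (hsX.exists_pow U hU) (hsX.exists_pow_eq_zero U hU)
    (f.flat_appLE hV hU hUV)
  rw [← CommRingCat.hom_comp, ← CommRingCat.hom_comp]
  congr 1
  simp only [Scheme.Hom.app_eq_appLE, Scheme.Hom.appLE_comp_appLE, w]

theorem isImmersion [IsImmersion f] : IsImmersion fP := by
  have := isCharP_opens YP p (πY ⁻¹ᵁ f.coborderRange)
  have := isCharP_opens Y p f.coborderRange
  have hres := isPerfection_restrict hY f.coborderRange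
  obtain ⟨g, hg⟩ := (hres.2 XP hX.1).2 (πX ≫ f.liftCoborder)
  have : IsClosedImmersion g := isClosedImmersion hX hres hg
  have : g ≫ (πY ⁻¹ᵁ f.coborderRange).ι = fP := (hY.2 XP hX.1).1 (by
    show (g ≫ (πY ⁻¹ᵁ f.coborderRange).ι) ≫ πY = fP ≫ πY
    rw [Category.assoc, ← morphismRestrict_ι, reassoc_of% hg, w]
    simp)
  rw [← this]
  infer_instance

end GrothLib.Frob
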