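import Groth.Agent.Lib.Frob.RelBij
import Mathlib.FieldTheory.IsPerfectClosure
import Mathlib.FieldTheory.Perfect

/-!
# Étale algebras over perfect rings and base change to perfect closures
-/

namespace GrothLib.Frob

universe u

open TensorProduct

variable (p : ℕ) [Fact p.Prime]

/-- An étale algebra over a perfect ring is perfect. -/
theorem bijective_pow_of_etale (A C : Type u) [CommRing A] [CharP A p] [PerfectRing A p] [CommRing C]
    [Algebra A C] [CharP C p] [Algebra.Etale A C] : Function.Bijective fun c : C => c ^ p := by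
  have hA : Function.Bijective (frobenius A p) := PerfectRing.bijective_frobenius
  have hT : Function.Bijective (Algebra.linearMap A (FrobAlg.Twist p A)) :=
    (FrobAlg.toTwist p A).bijective.comp hA
  have h := bijective_relFrob p A C
  let e : C ≃ₗ[A] FrobAlg.BaseChange p A C :=
    (TensorProduct.rid A C).symm ≪≫ₗ TensorProduct.congr (LinearEquiv.refl A C) (LinearEquiv.ofBijective _ hT)
  have he : ∀ c, FrobAlg.relFrob p A C (e c) = c ^ p := fun c => by
    change FrobAlg.relFrob p A C (c ⊗ₜ[A] (algebraMap A (FrobAlg.Twist p A) 1)) = _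
    rw [map_one, relFrob_tmul, map_one, map_one, mul_one]
  have : (fun c : C => c ^ p) = FrobAlg.relFrob p A C ∘ e := funext fun c => (he c).symm
  rw [this]
  exact h.comp e.bijective

theorem bijective_lift (A B A' B' : Type u) [CommRing A] [CommRing B] [CommRing A'] [CommRing B']
    [CharP A' p] [CharP B' p] [PerfectRing A' p] [PerfectRing B' p]
    [Algebra A B] [Algebra.Etale A B] [Algebra A A'] [Algebra B B'] [Algebra A B'] [IsScalarTower A B B']
    [IsPerfectClosure (algebraMap A A') p] [IsPerfectClosure (algebraMap B B') p]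
    (φ' : A' →ₐ[A] B') :
    Function.Bijective (Algebra.TensorProduct.lift φ' (IsScalarTower.toAlgHom A B B')
      (fun a b => Commute.all (φ' a) (IsScalarTower.toAlgHom A B B' b))) := by
  set Φ := Algebra.TensorProduct.lift φ' (IsScalarTower.toAlgHom A B B')
      (fun a b => Commute.all (φ' a) (IsScalarTower.toAlgHom A B B' b))
  haveI : CharP (A' ⊗[A] B) p := by
    haveI : Nontrivial B' := CharP.nontrivial_of_char_ne_one (v := p) (Fact.out : p.Prime).one_lt.ne'
    haveI : Nontrivial (A' ⊗[A] B) := Φ.toRingHom.domain_nontrivial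
    exact (CharP.charP_iff_prime_eq_zero Fact.out).mpr (by
      rw [← map_natCast (algebraMap A' (A' ⊗[A] B)), CharP.cast_eq_zero, map_zero])
  have hperf := bijective_pow_of_etale p A' (A' ⊗[A] B)
  haveI : PerfectRing (A' ⊗[A] B) p := ⟨by simpa [frobenius_def] using hperf⟩
  have hinr : ∀ b : B, Φ ((1 : A') ⊗ₜ b) = algebraMap B B' b := fun b => by simp [Φ]
  have hmem : ∀ c : A' ⊗[A] B, ∃ (n : ℕ) (b : B), (1 : A') ⊗ₜ b = c ^ p ^ n := by
    intro c
    induction c using TensorProduct.induction_on with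
    | zero => exact ⟨0, 0, by simp⟩
    | tmul a b =>
      obtain ⟨n, x, hx⟩ := IsPRadical.pow_mem (algebraMap A A') p a
      refine ⟨n, x • b ^ p ^ n, ?_⟩
      rw [Algebra.TensorProduct.tmul_pow, ← hx, Algebra.algebraMap_eq_smul_one, TensorProduct.smul_tmul]
    | add c d hc hd =>
      obtain ⟨n, b, hb⟩ := hc
      obtain ⟨m, b', hb'⟩ := hd
      refine ⟨n + m, b ^ p ^ m + b' ^ p ^ n, ?_⟩
      rw [TensorProduct.tmul_add, add_pow_char_pow, ← one_pow (p ^ m), ← Algebra.TensorProduct.tmul_pow, hb,
        one_pow (p ^ m), ← one_pow (p ^ n), ← Algebra.TensorProduct.tmul_pow, hb', ← pow_mul, ← pow_mul,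
        ← pow_add, ← pow_add, Nat.add_comm m n]
  constructor
  · rw [injective_iff_map_eq_zero]
    intro c hc
    obtain ⟨n, b, hb⟩ := hmem c
    have hb0 : algebraMap B B' b = 0 := by
      rw [← hinr, hb, map_pow, hc, zero_pow (pow_ne_zero _ (Fact.out : p.Prime).ne_zero)]
    obtain ⟨m, hm⟩ := mem_pNilradical.1 (IsPRadical.ker_le (algebraMap B B') p hb0)
    refine (bijective_iterateFrobenius (A' ⊗[A] B) p (n + m)).1 ?_
    simp only [iterateFrobenius_def, pow_add, pow_mul, ← hb, zero_pow (pow_ne_zero _ (Fact.out : p.Prime).ne_zero)]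
    rw [Algebra.TensorProduct.tmul_pow, hm, TensorProduct.tmul_zero]
  · intro y
    obtain ⟨n, b, hb⟩ := IsPRadical.pow_mem (algebraMap B B') p y
    obtain ⟨c, hc⟩ := (bijective_iterateFrobenius (A' ⊗[A] B) p n).2 ((1 : A') ⊗ₜ b)
    refine ⟨c, (bijective_iterateFrobenius B' p n).1 ?_⟩
    simp only [iterateFrobenius_def] at hc ⊢
    rw [← map_pow, hc, hinr, hb]

end GrothLib.Frob
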