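import Groth.Agent.Lib.UHTower.Basic
import Groth.Agent.Lib.PerfUH.Ring
import Mathlib.FieldTheory.IsPerfectClosure
import Mathlib.RingTheory.Spectrum.Prime.Homeomorph

/-!
# Universal homeomorphisms of affine schemes and perfect closures
-/

namespace GrothLib.Frob

universe u

open GrothLib.UHTower CategoryTheory AlgebraicGeometry

variable (p : ℕ) [Fact p.Prime] {A B : Type u} [CommRing A] [CommRing B] [CharP B p] (φ : A →+* B)

theorem uh_of_pow (hpow : ∀ b : B, ∃ n, b ^ p ^ n ∈ φ.range) (hker : RingHom.ker φ ≤ nilradical A) :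
    UH φ := by
  refine ⟨fun b => ?_, ?_, fun K _ f g hfg => RingHom.ext fun b => ?_⟩
  · obtain ⟨n, a, ha⟩ := hpow b
    letI := φ.toAlgebra
    exact IsIntegral.of_pow (pow_pos (Fact.out : p.Prime).pos n) (ha ▸ isIntegral_algebraMap (R := A) (x := a))
  · exact (PrimeSpectrum.isHomeomorph_comap φ (fun b => by
      obtain ⟨n, hn⟩ := hpow b
      exact ⟨p ^ n, pow_pos (Fact.out : p.Prime).pos n, hn⟩) hker).surjective
  · haveI : CharP K p := (CharP.charP_iff_prime_eq_zero Fact.out).mpr (by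
      rw [← map_natCast f, CharP.cast_eq_zero, map_zero])
    obtain ⟨n, a, ha⟩ := hpow b
    refine iterateFrobenius_inj K p n ?_
    simp only [iterateFrobenius_def, ← map_pow, ← ha]
    exact RingHom.congr_fun hfg a

theorem pow_of_uh [Nontrivial B] (h : UH φ) :
    (∀ b : B, ∃ n, b ^ p ^ n ∈ φ.range) ∧ RingHom.ker φ ≤ nilradical A := by
  refine ⟨fun b => ?_, fun a ha => ?_⟩
  · algebraize [φ]
    haveI : Algebra.IsIntegral A B := ⟨h.1⟩
    obtain ⟨n, hn⟩ := GrothLib.PerfUH.exists_pow_mem (A := A) (B := B) p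
      (fun Q Q' hQ hQ' e => congrArg PrimeSpectrum.asIdeal
        (h.2.2.injComap (a₁ := ⟨Q, hQ⟩) (a₂ := ⟨Q', hQ'⟩) (PrimeSpectrum.ext e)))
      (fun Q hQ x => by
        obtain ⟨N, s, a, hs, ha, hN⟩ := h.2.2.pires Q x
        rcases hN with rfl | ⟨ℓ, n, hℓ, rfl, hℓQ⟩
        · exact ⟨0, a, s, hs, by simpa [RingHom.algebraMap_toAlgebra] using ha⟩
        · have : ℓ = p := by
            by_contra hne
            have hcop : Nat.Coprime ℓ p := (Nat.coprime_primes hℓ Fact.out).2 hne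
            obtain ⟨u, v, huv⟩ := (Nat.isCoprime_iff_coprime.2 hcop : IsCoprime (ℓ : ℤ) p)
            have h2 := congrArg (Int.cast : ℤ → B) huv
            push_cast at h2
            rw [CharP.cast_eq_zero B p, mul_zero, add_zero] at h2
            exact hQ.ne_top ((Ideal.eq_top_iff_one _).2 (h2 ▸ Q.mul_mem_left _ hℓQ))
          subst this
          exact ⟨n, a, s, hs, ha⟩)
      b
    exact ⟨n, hn⟩
  · rw [mem_nilradical, ← mem_nilradical, nilradical_eq_sInf, Ideal.mem_sInf]
    intro P hP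
    obtain ⟨Q, hQ⟩ := h.2.1 ⟨P, hP⟩
    have : Q.asIdeal.comap φ = P := congrArg PrimeSpectrum.asIdeal hQ
    rw [← this, Ideal.mem_comap, RingHom.mem_ker.1 ha]
    exact Q.asIdeal.zero_mem

variable {A' B' : Type u} [CommRing A'] [CommRing B'] [CharP A' p] [CharP B' p]
  [PerfectRing A' p] [PerfectRing B' p] (i : A →+* A') (j : B →+* B')
  [IsPerfectClosure i p] [IsPerfectClosure j p] (φ' : A' →+* B')

include p i j in
theorem isUnivHomeo_iff_bijective (hφ : φ'.comp i = j.comp φ) :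
    FlatMor.IsUnivHomeo (Spec.map (CommRingCat.ofHom φ)) ↔ Function.Bijective φ' := by
  haveI : Nontrivial B := CharP.nontrivial_of_char_ne_one (v := p) (Fact.out : p.Prime).one_lt.ne'
  have hc : ∀ a, φ' (i a) = j (φ a) := RingHom.congr_fun hφ
  have h0 : ∀ {m : ℕ}, p ^ m ≠ 0 := pow_ne_zero _ (Fact.out : p.Prime).ne_zero
  rw [isUnivHomeo_iff_uh]
  constructor
  · intro h
    obtain ⟨hpow, hker⟩ := pow_of_uh p φ h
    constructor
    · rw [injective_iff_map_eq_zero]
      intro x hx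
      obtain ⟨n, a, ha⟩ := IsPRadical.pow_mem i p x
      have hj : j (φ a) = 0 := by rw [← hc, ha, map_pow, hx, zero_pow h0]
      obtain ⟨m, hm⟩ := mem_pNilradical.1 (IsPRadical.ker_le j p hj)
      obtain ⟨N, hN⟩ := mem_nilradical.1 (hker (show a ^ p ^ m ∈ RingHom.ker φ by
        rw [RingHom.mem_ker, map_pow, hm]))
      refine (bijective_iterateFrobenius A' p (n + m + N)).1 ?_
      simp only [iterateFrobenius_def, zero_pow h0]
      rw [pow_add, pow_add, pow_mul, pow_mul, ← ha, ← map_pow, ← map_pow]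
      have hle : N ≤ p ^ N := (Nat.lt_pow_self (Fact.out : p.Prime).one_lt).le
      rw [← Nat.sub_add_cancel hle, pow_add, hN, mul_zero, map_zero]
    · intro y
      obtain ⟨n, b, hb⟩ := IsPRadical.pow_mem j p y
      obtain ⟨N, a, ha⟩ := hpow b
      obtain ⟨x, hx⟩ := (bijective_iterateFrobenius A' p (n + N)).2 (i a)
      refine ⟨x, (bijective_iterateFrobenius B' p (n + N)).1 ?_⟩
      simp only [iterateFrobenius_def] at hx ⊢
      rw [← map_pow, hx, hc, ha, map_pow, hb, ← pow_mul, ← pow_add]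
  · intro h
    refine uh_of_pow p φ (fun b => ?_) (fun a ha => ?_)
    · obtain ⟨x, hx⟩ := h.2 (j b)
      obtain ⟨n, a, ha⟩ := IsPRadical.pow_mem i p x
      have hj : b ^ p ^ n - φ a ∈ RingHom.ker j := by
        rw [RingHom.mem_ker, map_sub, map_pow, ← hc, ha, map_pow, hx, sub_self]
      obtain ⟨m, hm⟩ := mem_pNilradical.1 (IsPRadical.ker_le j p hj)
      refine ⟨n + m, a ^ p ^ m, ?_⟩
      rw [sub_pow_char_pow, sub_eq_zero, ← pow_mul, ← pow_add] at hm
      rw [map_pow, ← hm]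
    · have : i a = 0 := h.1 (by rw [hc, RingHom.mem_ker.1 ha, map_zero, map_zero])
      obtain ⟨m, hm⟩ := mem_pNilradical.1 (IsPRadical.ker_le i p this)
      exact mem_nilradical.2 ⟨p ^ m, hm⟩

end GrothLib.Frob
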