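import Groth.Agent.Lib.Frob.Perfect
import Mathlib.AlgebraicGeometry.Morphisms.QuasiSeparated
import Mathlib.AlgebraicGeometry.Morphisms.Affine

/-!
# Sections of a perfection over quasi-compact opens
-/

universe u

open CategoryTheory CategoryTheory.Limits AlgebraicGeometry Opposite TopologicalSpace

namespace GrothLib.Frob

variable {p : ℕ} [Fact p.Prime] {X XP : Scheme.{u}} {π : XP ⟶ X}

theorem app_res (π : XP ⟶ X) {U V : X.Opens} (h : V ≤ U) (a : Γ(X, U)) :
    π.app V (X.presheaf.map (homOfLE h).op a) =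
      XP.presheaf.map (homOfLE (π.preimage_mono h)).op (π.app U a) :=
  congr($(π.naturality (homOfLE h).op) a)

omit [Fact p.Prime] in
theorem pow_pow_eq_zero_of_le {R : Type*} [CommRing R] {a : R} {m n : ℕ} (h : m ≤ n)
    (ha : a ^ p ^ m = 0) (hp : 0 < p) : a ^ p ^ n = 0 := by
  obtain ⟨k, rfl⟩ := Nat.exists_eq_add_of_le h
  rw [pow_add, pow_mul, ha, zero_pow (pow_pos hp k).ne']

theorem IsPerfStruct.exists_pow_eq_zero_of_isCompact (h : IsPerfStruct p π) (U : X.Opens)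
    (hU : IsCompact (U : Set X)) :
    ∀ a : Γ(X, U), π.app U a = 0 → ∃ n, a ^ p ^ n = 0 := by
  refine compact_open_induction_on U hU ?_ fun S hS V ih ↦ ?_
  · exact fun a _ ↦ ⟨0, Subsingleton.elim _ _⟩
  ·
    intro a ha
    obtain ⟨n₁, h₁⟩ := ih (X.presheaf.map (homOfLE le_sup_left).op a)
      (by rw [app_res, ha, map_zero])
    obtain ⟨n₂, h₂⟩ := h.exists_pow_eq_zero V.1 V.2 (X.presheaf.map (homOfLE le_sup_right).op a)
      (by rw [app_res, ha, map_zero])
    refine ⟨n₁ + n₂, X.sheaf.eq_of_locally_eq₂ (homOfLE le_sup_left) (homOfLE le_sup_right) le_rfl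
      _ _ ?_ ?_⟩
    · show X.presheaf.map _ (a ^ p ^ (n₁ + n₂)) = X.presheaf.map _ 0
      rw [map_zero, map_pow]
      exact pow_pow_eq_zero_of_le (Nat.le_add_right _ _) h₁ (Fact.out : p.Prime).pos
    · show X.presheaf.map _ (a ^ p ^ (n₁ + n₂)) = X.presheaf.map _ 0
      rw [map_zero, map_pow]
      exact pow_pow_eq_zero_of_le (Nat.le_add_left _ _) h₂ (Fact.out : p.Prime).pos

theorem IsPerfStruct.exists_pow_of_qcqs [FrobSch.IsCharP X p] (h : IsPerfStruct p π)
    (U : X.Opens) (hU : IsCompact (U : Set X)) :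
    IsQuasiSeparated (U : Set X) → ∀ b : Γ(XP, π ⁻¹ᵁ U), ∃ n a, π.app U a = b ^ p ^ n := by
  refine compact_open_induction_on U hU ?_ fun S hS V ih ↦ ?_
  · exact fun _ b ↦ ⟨0, 0, @Subsingleton.elim _
      (CommRingCat.subsingleton_of_isTerminal (XP.sheaf.isTerminalOfEqEmpty (by simp))) _ _⟩
  ·
    intro hqs b
    obtain ⟨n₁, a₁, h₁⟩ := ih (hqs.of_subset (Set.subset_union_left))
      (XP.presheaf.map (homOfLE (π.preimage_mono le_sup_left)).op b)
    obtain ⟨n₂, a₂, h₂⟩ := h.exists_pow V.1 V.2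
      (XP.presheaf.map (homOfLE (π.preimage_mono le_sup_right)).op b)
    have hpow : ∀ (W : X.Opens) (c : Γ(X, W)) (d : Γ(XP, π ⁻¹ᵁ W)) (n k : ℕ),
        π.app W c = d ^ p ^ n → π.app W (c ^ p ^ k) = d ^ p ^ (n + k) := by
      intro W c d n k hc
      rw [map_pow, hc, ← pow_mul, ← pow_add]
    have hc : IsCompact ((S ⊓ V.1 : X.Opens) : Set X) :=
      hqs _ _ Set.subset_union_left S.2 hS Set.subset_union_right V.1.2 V.2.isCompact
    have h0 := FrobSch.natCast_eq_zero_app X p (S ⊓ V.1)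
    let d := X.presheaf.map (homOfLE inf_le_left).op (a₁ ^ p ^ n₂) -
      X.presheaf.map (homOfLE (inf_le_right (a := S))).op (a₂ ^ p ^ n₁)
    obtain ⟨m, hm⟩ := h.exists_pow_eq_zero_of_isCompact _ hc d (by
      rw [map_sub, app_res, app_res, hpow _ _ _ _ _ h₁, hpow _ _ _ _ _ h₂, add_comm n₂ n₁,
        sub_eq_zero]
      simp only [map_pow, ← ConcreteCategory.comp_apply, ← Functor.map_comp]
      rfl)
    have hcompat : X.presheaf.map (homOfLE inf_le_left).op (a₁ ^ p ^ (n₂ + m)) =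
        X.presheaf.map (homOfLE (inf_le_right (a := S))).op (a₂ ^ p ^ (n₁ + m)) := by
      rcases subsingleton_or_nontrivial Γ(X, S ⊓ V.1) with hs | hs
      · exact Subsingleton.elim _ _
      have : CharP Γ(X, S ⊓ V.1) p := (CharP.charP_iff_prime_eq_zero Fact.out).2 h0
      rw [sub_pow_char_pow, sub_eq_zero] at hm
      simpa only [pow_add, pow_mul, map_pow] using hm
    let a := (X.sheaf.objSupIsoProdEqLocus S V.1).inv ⟨⟨a₁ ^ p ^ (n₂ + m),
      a₂ ^ p ^ (n₁ + m)⟩, hcompat⟩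
    have hfst : X.presheaf.map (homOfLE le_sup_left).op a = a₁ ^ p ^ (n₂ + m) :=
      TopCat.Sheaf.objSupIsoProdEqLocus_inv_fst X.sheaf S V.1 _
    have hsnd : X.presheaf.map (homOfLE le_sup_right).op a = a₂ ^ p ^ (n₁ + m) :=
      TopCat.Sheaf.objSupIsoProdEqLocus_inv_snd X.sheaf S V.1 _
    refine ⟨n₁ + n₂ + m, a, ?_⟩
    refine XP.sheaf.eq_of_locally_eq₂ (homOfLE (π.preimage_mono le_sup_left))
      (homOfLE (π.preimage_mono le_sup_right)) le_rfl _ _ ?_ ?_
    · show XP.presheaf.map _ (π.app _ a) = XP.presheaf.map _ (b ^ p ^ (n₁ + n₂ + m))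
      rw [← app_res _ le_sup_left, hfst, hpow _ _ _ _ _ h₁, map_pow, add_assoc]
    · show XP.presheaf.map _ (π.app _ a) = XP.presheaf.map _ (b ^ p ^ (n₁ + n₂ + m))
      rw [← app_res _ le_sup_right, hsnd, hpow _ _ _ _ _ h₂, map_pow, add_assoc, add_left_comm]

/-- An ideal generating the unit ideal after a radical ring map is the unit ideal. -/
theorem eq_top_of_map_eq_top {R S : Type u} [CommRing R] [CommRing S] (f : R →+* S)
    (hpow : ∀ b, ∃ n a, f a = b ^ p ^ n) (hker : ∀ a, f a = 0 → ∃ n, a ^ p ^ n = 0)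
    (h0 : (p : R) = 0) {J : Ideal R} (hJ : J.map f = ⊤) : J = ⊤ := by
  rcases subsingleton_or_nontrivial S with hS | hS
  · obtain ⟨n, hn⟩ := hker 1 (Subsingleton.elim _ _)
    rw [one_pow] at hn
    exact J.eq_top_of_isUnit_mem (x := 0) J.zero_mem (by rw [← hn]; exact isUnit_one)
  have : CharP S p := (CharP.charP_iff_prime_eq_zero Fact.out).2 (by
    rw [← map_natCast f, h0, map_zero])
  have hp := (Fact.out : p.Prime).pos
  suffices ∀ y ∈ J.map f, ∃ n, ∃ c ∈ J, f c = y ^ p ^ n by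
    obtain ⟨n, c, hcJ, hc⟩ := this 1 (hJ ▸ Submodule.mem_top)
    obtain ⟨m, hm⟩ := hker (c - 1) (by rw [map_sub, hc, one_pow, map_one, sub_self])
    refine J.eq_top_of_isUnit_mem hcJ ?_
    have := IsNilpotent.isUnit_add_left_of_commute ⟨_, hm⟩ isUnit_one (.one_right _)
    simpa using this
  intro y hy
  induction hy using Submodule.span_induction with
  | mem x hx =>
    obtain ⟨c, hc, rfl⟩ := hx
    exact ⟨0, c, hc, by simp⟩
  | zero => exact ⟨0, 0, J.zero_mem, by simp⟩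
  | add x y _ _ hx hy =>
    obtain ⟨n, c, hc, hcx⟩ := hx
    obtain ⟨m, d, hd, hdy⟩ := hy
    refine ⟨n + m, c ^ p ^ m + d ^ p ^ n, J.add_mem (Ideal.pow_mem_of_mem _ hc _ (pow_pos hp _))
      (Ideal.pow_mem_of_mem _ hd _ (pow_pos hp _)), ?_⟩
    rw [add_pow_char_pow, map_add, map_pow, map_pow, hcx, hdy, ← pow_mul, ← pow_mul, ← pow_add,
      ← pow_add, add_comm m n]
  | smul b x _ hx =>
    obtain ⟨n, c, hc, hcx⟩ := hx
    obtain ⟨m, a, ha⟩ := hpow b
    refine ⟨n + m, a ^ p ^ n * c ^ p ^ m, J.mul_mem_left _ (Ideal.pow_mem_of_mem _ hc _ (pow_pos hp _)), ?_⟩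
    rw [map_mul, map_pow, map_pow, hcx, ha, smul_eq_mul, mul_pow, ← pow_mul, ← pow_mul, ← pow_add,
      ← pow_add, add_comm m n]

/-- If the preimage of an open is affine under a perfection, the open is affine. -/
theorem IsPerfStruct.isAffineOpen_of_preimage [FrobSch.IsCharP X p] (h : IsPerfStruct p π)
    (hπ : Function.Surjective π) (U : X.Opens) (hqc : IsCompact (U : Set X))
    (hqs : IsQuasiSeparated (U : Set X)) (hU : IsAffineOpen (π ⁻¹ᵁ U)) : IsAffineOpen U := by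
  let s : Set Γ(X, U) := {t | IsAffineOpen (X.basicOpen t)}
  refine isAffineOpen_of_isAffineOpen_basicOpen U s ?_ fun t ht ↦ ht
  have hcov : U ≤ ⨆ t : s, X.basicOpen t.1 := by
    intro x hx
    obtain ⟨x', rfl⟩ := hπ x
    obtain ⟨W, hW, hxW, hWU⟩ := exists_isAffineOpen_mem_and_subset hx
    obtain ⟨b, hbW, hxb⟩ := hU.exists_basicOpen_le (⟨x', hxW⟩ : π ⁻¹ᵁ W) hx
    obtain ⟨n, a, ha⟩ := h.exists_pow_of_qcqs U hqc hqs b
    have hba : π ⁻¹ᵁ X.basicOpen a = XP.basicOpen b := by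
      rw [Scheme.preimage_basicOpen, ha,
        XP.basicOpen_pow _ (pow_pos (Fact.out : p.Prime).pos n)]
    have haW : X.basicOpen a ≤ W := by
      intro y hy
      obtain ⟨y', rfl⟩ := hπ y
      exact hbW (hba.le hy)
    have hA : IsAffineOpen (X.basicOpen a) := by
      have h2 : X.basicOpen a = X.basicOpen (X.presheaf.map (homOfLE hWU).op a) := by
        rw [X.basicOpen_res]
        exact (inf_eq_right.mpr haW).symm
      rw [h2]
      exact hW.basicOpen _
    exact Opens.mem_iSup.mpr ⟨⟨a, hA⟩, hba.ge hxb⟩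
  have key : Ideal.span ((π.app U).hom '' s) = ⊤ := by
    rw [← IsAffineOpen.iSup_basicOpen_eq_self_iff hU]
    refine le_antisymm (iSup_le fun f ↦ XP.basicOpen_le _) fun x hx ↦ ?_
    obtain ⟨⟨t, ht⟩, hxt⟩ := Opens.mem_iSup.mp (hcov hx)
    refine Opens.mem_iSup.mpr ⟨⟨_, t, ht, rfl⟩, ?_⟩
    exact (Scheme.preimage_basicOpen π t).le hxt
  rw [← Ideal.map_span] at key
  exact eq_top_of_map_eq_top (π.app U).hom (h.exists_pow_of_qcqs U hqc hqs)
    (h.exists_pow_eq_zero_of_isCompact U hqc) (FrobSch.natCast_eq_zero_app X p U) key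

end GrothLib.Frob
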