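import Groth.Agent.Lib.Frob.RelBij
import Mathlib.RingTheory.AdicCompletion.AsTensorProduct
import Mathlib.RingTheory.AdicCompletion.Algebra
import Mathlib.RingTheory.Finiteness.Ideal

/-!
# Completions of `F`-finite noetherian rings are relatively perfect
-/

namespace GrothLib.Frob

universe u

open TensorProduct

variable (p : ℕ) [hp : Fact p.Prime] (A : Type u) [CommRing A] [CharP A p]

theorem smul_twist (a t : A) : a • FrobAlg.toTwist p A t = FrobAlg.toTwist p A (a ^ p * t) := by
  rw [Algebra.smul_def, FrobAlg.algebraMap_twist, map_mul]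

theorem mem_smul_top_twist (J : Ideal A) (t : A) :
    FrobAlg.toTwist p A t ∈ J • (⊤ : Submodule A (FrobAlg.Twist p A)) ↔ t ∈ J.map (frobenius A p) := by
  constructor
  · intro h
    suffices ∀ x ∈ J • (⊤ : Submodule A (FrobAlg.Twist p A)),
        (FrobAlg.toTwist p A).symm x ∈ J.map (frobenius A p) by
      simpa using this _ h
    intro x hx
    induction hx using Submodule.smul_induction_on' with
    | smul r hr m _ =>
      rw [← (FrobAlg.toTwist p A).apply_symm_apply m, smul_twist, RingEquiv.symm_apply_apply]
      exact Ideal.mul_mem_right _ _ (by rw [← frobenius_def]; exact Ideal.mem_map_of_mem _ hr)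
    | add a b _ _ ha hb => rw [map_add]; exact add_mem ha hb
  · intro h
    induction h using Submodule.span_induction with
    | mem x hx =>
      obtain ⟨r, hr, rfl⟩ := hx
      rw [frobenius_def, ← mul_one (r ^ p), ← smul_twist]
      exact Submodule.smul_mem_smul hr Submodule.mem_top
    | zero => rw [map_zero]; exact zero_mem _
    | add a b _ _ ha hb => rw [map_add]; exact add_mem ha hb
    | smul c a _ ha =>
      rw [smul_eq_mul, map_mul, mul_comm]
      generalize FrobAlg.toTwist p A a = w at ha ⊢
      induction ha using Submodule.smul_induction_on' with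
      | smul r hr m _ =>
        rw [smul_mul_assoc]
        exact Submodule.smul_mem_smul hr Submodule.mem_top
      | add a b _ _ ha hb => rw [add_mul]; exact add_mem ha hb

theorem map_frob_le (J : Ideal A) : J.map (frobenius A p) ≤ J :=
  Ideal.map_le_iff_le_comap.2 fun r hr => by
    rw [Ideal.mem_comap, frobenius_def]; exact Ideal.pow_mem_of_mem _ hr _ hp.out.pos

/-- The relative Frobenius of the completion of an `F`-finite noetherian ring is bijective. -/
theorem bijective_relFrob_completion [IsNoetherianRing A] (hF : (frobenius A p).Finite) (I : Ideal A)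
    [CharP (AdicCompletion I A) p] :
    Function.Bijective (FrobAlg.relFrob p A (AdicCompletion I A)) := by
  haveI : Module.Finite A (FrobAlg.Twist p A) := hF
  have hbij := AdicCompletion.ofTensorProduct_bijective_of_finite_of_isNoetherian I (FrobAlg.Twist p A)
  let Φ := AdicCompletion.ofTensorProduct I (FrobAlg.Twist p A)
  -- representatives
  have key : ∀ (n : ℕ) (x : FrobAlg.BaseChange p A (AdicCompletion I A)), ∃ t : A,
      (Φ x).val n = Submodule.Quotient.mk (FrobAlg.toTwist p A t) ∧
      AdicCompletion.evalₐ I n (FrobAlg.relFrob p A (AdicCompletion I A) x) = Ideal.Quotient.mk (I ^ n) t := by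
    intro n x
    induction x using TensorProduct.induction_on with
    | zero => exact ⟨0, by rw [map_zero, map_zero]; rfl, by rw [map_zero, map_zero, map_zero]⟩
    | add x y hx hy =>
      obtain ⟨t, h1, h2⟩ := hx
      obtain ⟨t', h1', h2'⟩ := hy
      refine ⟨t + t', ?_, by rw [map_add, map_add, h2, h2', map_add]⟩
      rw [map_add, AdicCompletion.val_add, Pi.add_apply, h1, h1', map_add, Submodule.Quotient.mk_add]
    | tmul b a =>
      obtain ⟨f, rfl⟩ := AdicCompletion.mk_surjective I A b
      obtain ⟨a, rfl⟩ := (FrobAlg.toTwist p A).surjective a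
      refine ⟨f n ^ p * a, ?_, ?_⟩
      · rw [← smul_twist]
        rfl
      · rw [relFrob_tmul, RingEquiv.symm_apply_apply, map_mul, map_pow, AdicCompletion.evalₐ_mk, AlgHom.commutes,
          Ideal.Quotient.algebraMap_eq, map_mul, map_pow]
  -- comparison of the topologies
  have hM : ∀ n, ∃ M, I ^ M ≤ (I ^ n).map (frobenius A p) := fun n => by
    obtain ⟨M, hM⟩ := Ideal.exists_pow_le_of_le_radical_of_fg
      (show I ^ n ≤ ((I ^ n).map (frobenius A p)).radical from fun r hr =>
        ⟨p, (Ideal.mem_map_of_mem (frobenius A p) hr : r ^ p ∈ (I ^ n).map (frobenius A p))⟩)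
      (IsNoetherian.noetherian _)
    exact ⟨n * M, by rw [pow_mul]; exact hM⟩
  choose M hM using hM
  let N : ℕ → ℕ := fun n => n + ∑ i ∈ Finset.range (n + 1), M i
  have hN : ∀ n, I ^ N n ≤ (I ^ n).map (frobenius A p) := fun n =>
    (Ideal.pow_le_pow_right (le_add_left (Finset.single_le_sum (f := M) (fun i _ => Nat.zero_le _)
      (Finset.self_mem_range_succ n)))).trans (hM n)
  constructor
  · rw [injective_iff_map_eq_zero]
    intro x hx
    apply hbij.1
    rw [map_zero]
    apply AdicCompletion.ext
    intro n
    rw [AdicCompletion.val_zero, Pi.zero_apply]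
    obtain ⟨t, ht1, ht2⟩ := key (N n) x
    rw [hx, map_zero, eq_comm, Ideal.Quotient.eq_zero_iff_mem] at ht2
    show (Φ x).val n = 0
    rw [← (Φ x).property (le_self_add : n ≤ N n), ht1]
    exact (Submodule.Quotient.mk_eq_zero _).2 ((mem_smul_top_twist p A _ t).2 (hN n ht2))
  · intro y
    obtain ⟨f, rfl⟩ := AdicCompletion.mk_surjective I A y
    have hNm : ∀ {m n : ℕ}, m ≤ n → N m ≤ N n := fun h =>
      add_le_add h (Finset.sum_le_sum_of_subset (Finset.range_mono (by omega)))
    have hfd : ∀ {m n : ℕ}, m ≤ n → f n - f m ∈ I ^ m := fun h => by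
      have := (SModEq.sub_mem.1 (f.property h).symm)
      rwa [Ideal.smul_eq_mul, Ideal.mul_top] at this
    let z : AdicCompletion I (FrobAlg.Twist p A) :=
      ⟨fun n => Submodule.Quotient.mk (FrobAlg.toTwist p A (f (N n))), fun {m n} h => by
        change Submodule.Quotient.mk (FrobAlg.toTwist p A (f (N n))) = _
        rw [Submodule.Quotient.eq, ← map_sub, mem_smul_top_twist]
        exact hN m (hfd (hNm h))⟩
    obtain ⟨x, hx⟩ := hbij.2 z
    refine ⟨x, AdicCompletion.ext_evalₐ fun n => ?_⟩
    obtain ⟨t, ht1, ht2⟩ := key n x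
    rw [ht2, AdicCompletion.evalₐ_mk, Ideal.Quotient.eq]
    have h1 : Submodule.Quotient.mk (p := (I ^ n • ⊤ : Submodule A (FrobAlg.Twist p A))) (FrobAlg.toTwist p A (f (N n)))
        = Submodule.Quotient.mk (FrobAlg.toTwist p A t) := by
      rw [← ht1, show Φ x = z from hx]
    rw [Submodule.Quotient.eq, ← map_sub, mem_smul_top_twist] at h1
    have e : t - f n = (f (N n) - f n) - (f (N n) - t) := by ring
    rw [e]
    exact sub_mem (hfd le_self_add) (map_frob_le p A _ h1)

end GrothLib.Frob
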