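import Groth.Agent.Lib.Frob.RelBij
import Mathlib.RingTheory.MvPolynomial.Basic
import Mathlib.LinearAlgebra.TensorProduct.Pi
import Mathlib.LinearAlgebra.TensorProduct.Basis
import Mathlib.RingTheory.Smooth.StandardSmoothCotangent

/-!
# The relative Frobenius of an algebra étale over affine space is free
-/

namespace GrothLib.Frob

universe u

open TensorProduct MvPolynomial

variable (p : ℕ) [hp : Fact p.Prime] {A : Type u} [CommRing A] [CharP A p]

/-- The exponent vector of a small multi-index. -/
noncomputable def expVec {r : ℕ} (e : Fin r → Fin p) : Fin r →₀ ℕ :=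
  Finsupp.equivFunOnFinite.symm fun i => (e i : ℕ)

theorem expVec_apply {r : ℕ} (e : Fin r → Fin p) (i : Fin r) : expVec p e i = (e i : ℕ) := rfl

theorem expVec_add_inj {r : ℕ} {e e' : Fin r → Fin p} {d d' : Fin r →₀ ℕ}
    (h : p • d + expVec p e = p • d' + expVec p e') : d = d' ∧ e = e' := by
  have key : ∀ i, p * d i + (e i : ℕ) = p * d' i + (e' i : ℕ) := fun i => by
    have := DFunLike.congr_fun h i
    simpa [expVec_apply] using this
  refine ⟨Finsupp.ext fun i => ?_, funext fun i => Fin.ext ?_⟩
  · have := congrArg (· / p) (key i)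
    simpa [Nat.mul_add_div hp.out.pos, Nat.div_eq_of_lt (e i).2, Nat.div_eq_of_lt (e' i).2] using this
  · have := congrArg (· % p) (key i)
    simpa [Nat.mul_add_mod, Nat.mod_eq_of_lt (e i).2, Nat.mod_eq_of_lt (e' i).2] using this

variable (r : ℕ)

local notation "P" => MvPolynomial (Fin r) A
local notation "T" => FrobAlg.Twist p A

/-- The candidate basis map for polynomial rings. -/
noncomputable def phiPoly (c : (Fin r → Fin p) → FrobAlg.BaseChange p A P) : P :=
  ∑ e, FrobAlg.relFrob p A P (c e) * monomial (expVec p e) 1

theorem relFrob_monomial (d : Fin r →₀ ℕ) (a : A) (t : T) :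
    FrobAlg.relFrob p A P (monomial d a ⊗ₜ t) =
      monomial (p • d) (a ^ p * (FrobAlg.toTwist p A).symm t) := by
  rw [relFrob_tmul, monomial_pow, MvPolynomial.algebraMap_eq, mul_comm, C_mul_monomial, mul_comm]

theorem coeff_single (y : FrobAlg.BaseChange p A P) (e e' : Fin r → Fin p) (d : Fin r →₀ ℕ) :
    coeff (p • d + expVec p e) (FrobAlg.relFrob p A P y * monomial (expVec p e') 1) =
      if e = e' then (FrobAlg.toTwist p A).symm
        (((basisMonomials (Fin r) A).baseChange T).repr (TensorProduct.comm A P T y) d) else 0 := by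
  classical
  induction y using TensorProduct.induction_on with
  | zero => simp
  | add a b ha hb =>
    rw [map_add, add_mul, coeff_add, ha, hb]
    split_ifs <;> simp
  | tmul f t =>
    induction f using MvPolynomial.induction_on' with
    | add f g hf hg =>
      rw [add_tmul, map_add, add_mul, coeff_add, hf, hg]
      split_ifs <;> simp
    | monomial m a =>
      rw [relFrob_monomial, monomial_mul, mul_one, coeff_monomial, TensorProduct.comm_tmul,
        Module.Basis.baseChange_repr_tmul]
      have hrepr : (basisMonomials (Fin r) A).repr (monomial m a) d = if m = d then a else 0 := by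
        change coeff d (monomial m a) = _
        rw [coeff_monomial]
      rw [hrepr]
      by_cases he : e = e'
      · subst he
        rw [if_pos rfl]
        by_cases hm : m = d
        · subst hm
          rw [if_pos rfl, if_pos rfl, Algebra.smul_def, map_mul, FrobAlg.algebraMap_twist,
            RingEquiv.symm_apply_apply]
        · rw [if_neg (fun h => hm (expVec_add_inj p h).1), if_neg hm, zero_smul, map_zero]
      · rw [if_neg he, if_neg (fun h => he (expVec_add_inj p h).2.symm)]

theorem coeff_phiPoly (c : (Fin r → Fin p) → FrobAlg.BaseChange p A P) (e : Fin r → Fin p) (d : Fin r →₀ ℕ) :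
    coeff (p • d + expVec p e) (phiPoly p r c) = (FrobAlg.toTwist p A).symm
        (((basisMonomials (Fin r) A).baseChange T).repr (TensorProduct.comm A P T (c e)) d) := by
  classical
  simp only [phiPoly, coeff_sum, coeff_single]
  rw [Finset.sum_ite_eq]
  simp

theorem phiPoly_add (c c' : (Fin r → Fin p) → FrobAlg.BaseChange p A P) :
    phiPoly p r (c + c') = phiPoly p r c + phiPoly p r c' := by
  simp [phiPoly, add_mul, Finset.sum_add_distrib]

theorem bijective_phiPoly : Function.Bijective (phiPoly p (A := A) r) := by
  classical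
  constructor
  · intro c c' h
    funext e
    refine (TensorProduct.comm A P T).injective
      (((basisMonomials (Fin r) A).baseChange T).repr.injective (Finsupp.ext fun d => ?_))
    apply (FrobAlg.toTwist p A).symm.injective
    rw [← coeff_phiPoly, ← coeff_phiPoly, h]
  · intro f
    induction f using MvPolynomial.induction_on' with
    | add f g hf hg =>
      obtain ⟨c, rfl⟩ := hf
      obtain ⟨c', rfl⟩ := hg
      exact ⟨c + c', phiPoly_add p r c c'⟩
    | monomial m a =>
      let e : Fin r → Fin p := fun i => ⟨m i % p, Nat.mod_lt _ hp.out.pos⟩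
      let d : Fin r →₀ ℕ := Finsupp.equivFunOnFinite.symm fun i => m i / p
      refine ⟨Pi.single e (monomial d 1 ⊗ₜ FrobAlg.toTwist p A a), ?_⟩
      rw [phiPoly, Finset.sum_eq_single e (fun b _ hb => by simp [Pi.single_eq_of_ne hb])
        (fun h => absurd (Finset.mem_univ e) h), Pi.single_eq_same, relFrob_monomial, monomial_mul, one_pow,
        one_mul, mul_one, RingEquiv.symm_apply_apply]
      refine congrArg (fun k => monomial k a) (Finsupp.ext fun i => ?_)
      rw [Finsupp.add_apply, Finsupp.smul_apply, expVec_apply, smul_eq_mul]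
      exact Nat.div_add_mod (m i) p

/-- The basis map as a `P`-linear map into the Frobenius twist. -/
noncomputable def phiPolyLin [CharP P p] :
    ((Fin r → Fin p) → FrobAlg.BaseChange p A P) →ₗ[P] FrobAlg.Twist p P where
  toFun c := FrobAlg.toTwist p P (phiPoly p r c)
  map_add' c c' := by rw [phiPoly_add, map_add]
  map_smul' f c := by
    rw [RingHom.id_apply, Algebra.smul_def (A := FrobAlg.Twist p P), FrobAlg.algebraMap_twist, ← map_mul]
    refine congrArg (FrobAlg.toTwist p P) ?_
    simp only [phiPoly, Finset.mul_sum]
    refine Finset.sum_congr rfl fun e _ => ?_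
    rw [Pi.smul_apply, Algebra.smul_def (R := P) (A := FrobAlg.BaseChange p A P), map_mul, ← mul_assoc]
    congr 2
    change FrobAlg.relFrob p A P (f ⊗ₜ 1) = _
    rw [relFrob_tmul, map_one, map_one, mul_one]

theorem exists_basis (B : Type u) [CommRing B] [Algebra A B] [CharP B p] [Algebra P B]
    [IsScalarTower A P B] [Algebra.Etale P B] :
    letI := (FrobAlg.relFrob p A B).toAlgebra
    Nonempty (Module.Basis (Fin r → Fin p) (FrobAlg.BaseChange p A B) B) := by
  classical
  letI := (FrobAlg.relFrob p A B).toAlgebra
  let L : B ⊗[P] ((Fin r → Fin p) → FrobAlg.BaseChange p A P) ≃ₗ[P] B ⊗[P] FrobAlg.Twist p P :=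
    (LinearEquiv.ofBijective (phiPolyLin p (A := A) r)
      ((FrobAlg.toTwist p P).bijective.comp (bijective_phiPoly p r))).lTensor B
  let Q := TensorProduct.piRight P P B (fun _ : Fin r → Fin p => FrobAlg.BaseChange p A P)
  let cn := TensorProduct.AlgebraTensorModule.cancelBaseChange A P P B T
  have hcn : ∀ (b : B) (y : FrobAlg.BaseChange p A P), FrobAlg.relFrob p A B (cn (b ⊗ₜ y)) =
      b ^ p * algebraMap P B (FrobAlg.relFrob p A P y) := fun b y => by
    induction y using TensorProduct.induction_on with
    | zero => simp
    | add x y hx hy => simp only [tmul_add, map_add, hx, hy, mul_add]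
    | tmul f t =>
      rw [TensorProduct.AlgebraTensorModule.cancelBaseChange_tmul, relFrob_tmul, relFrob_tmul, map_mul,
        map_pow, ← IsScalarTower.algebraMap_apply A P B, Algebra.smul_def, mul_pow]
      ring
  let v : (Fin r → Fin p) → B := fun e => algebraMap P B (monomial (expVec p e) 1)
  have key : ∀ x, FrobAlg.relFrob p P B (L x) = ∑ e, FrobAlg.relFrob p A B (cn (Q x e)) * v e := fun x => by
    induction x using TensorProduct.induction_on with
    | zero => simp
    | add x y hx hy => simp only [map_add, Pi.add_apply, hx, hy, add_mul, Finset.sum_add_distrib]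
    | tmul b c =>
      change FrobAlg.relFrob p P B (b ⊗ₜ FrobAlg.toTwist p P (phiPoly p r c)) = _
      rw [relFrob_tmul, RingEquiv.symm_apply_apply, phiPoly, map_sum, Finset.mul_sum]
      refine Finset.sum_congr rfl fun e _ => ?_
      rw [show Q (b ⊗ₜ c) e = b ⊗ₜ c e by simp [Q], hcn, map_mul, mul_assoc]
  have hLv : ⇑(Fintype.linearCombination (FrobAlg.BaseChange p A B) v) =
      (fun x => FrobAlg.relFrob p P B (L x)) ∘ Q.symm ∘ fun c e => cn.symm (c e) := funext fun c => by
    rw [Fintype.linearCombination_apply, Function.comp_apply, Function.comp_apply, key]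
    refine Finset.sum_congr rfl fun e _ => ?_
    rw [LinearEquiv.apply_symm_apply, LinearEquiv.apply_symm_apply]
    rfl
  have hbij : Function.Bijective ⇑(Fintype.linearCombination (FrobAlg.BaseChange p A B) v) := by
    rw [hLv]
    exact (((bijective_relFrob p P B).comp L.bijective).comp Q.symm.bijective).comp
      (Function.Bijective.piMap fun _ => cn.symm.bijective)
  exact ⟨(Pi.basisFun _ _).map (LinearEquiv.ofBijective _ hbij)⟩

end GrothLib.Frob
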