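import Groth.Agent.Lib.Frob.RelFree
import Mathlib.RingTheory.RingHom.StandardSmooth
import Mathlib.RingTheory.Smooth.StandardSmoothOfFree
import Mathlib.RingTheory.Etale.Kaehler
import Mathlib.RingTheory.Flat.Localization
import Mathlib.RingTheory.Finiteness.ModuleFinitePresentation
import Mathlib.RingTheory.Spectrum.Prime.FreeLocus
import Mathlib.RingTheory.Localization.BaseChange
import Mathlib.RingTheory.RingHom.FinitePresentation

/-!
# The relative Frobenius of a smooth algebra is finite locally free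
-/

namespace GrothLib.Frob

universe u

open TensorProduct

variable (p : ℕ) [hp : Fact p.Prime] (A : Type u) [CommRing A] [CharP A p]
  (B : Type u) [CommRing B] [Algebra A B] [CharP B p]

theorem isIntegral_relFrob : (FrobAlg.relFrob p A B).IsIntegral := fun b => by
  letI := (FrobAlg.relFrob p A B).toAlgebra
  refine IsIntegral.of_pow hp.out.pos ?_
  have : b ^ p = algebraMap (FrobAlg.BaseChange p A B) B (b ⊗ₜ 1) := by
    change _ = FrobAlg.relFrob p A B (b ⊗ₜ 1)
    rw [relFrob_tmul, map_one, map_one, mul_one]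
  rw [this]
  exact isIntegral_algebraMap

theorem finite_fp_relFrob [Algebra.FinitePresentation A B] :
    letI := (FrobAlg.relFrob p A B).toAlgebra
    Module.Finite (FrobAlg.BaseChange p A B) B ∧ Module.FinitePresentation (FrobAlg.BaseChange p A B) B := by
  letI := (FrobAlg.relFrob p A B).toAlgebra
  let R := FrobAlg.BaseChange p A B
  have hB : ((algebraMap A B).comp ((FrobAlg.toTwist p A).symm : FrobAlg.Twist p A →+* A)).FinitePresentation :=
    RingHom.FinitePresentation.comp (RingHom.finitePresentation_algebraMap.2 ‹_›)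
      (RingHom.FinitePresentation.of_bijective (f := ((FrobAlg.toTwist p A).symm : FrobAlg.Twist p A →+* A))
        (FrobAlg.toTwist p A).symm.bijective)
  have hcomp : (algebraMap R B).comp (algebraMap (FrobAlg.Twist p A) R) =
      (algebraMap A B).comp ((FrobAlg.toTwist p A).symm : FrobAlg.Twist p A →+* A) := RingHom.ext fun a => by
    change FrobAlg.relFrob p A B ((1 : B) ⊗ₜ[A] a) = _
    rw [relFrob_tmul, one_pow, one_mul]
    rfl
  have hft : (algebraMap (FrobAlg.Twist p A) R).FiniteType := by
    rw [RingHom.finiteType_algebraMap]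
    exact Algebra.FiniteType.equiv inferInstance
      ({ Algebra.TensorProduct.comm A (FrobAlg.Twist p A) B with
          commutes' := fun a => by
            change Algebra.TensorProduct.comm A (FrobAlg.Twist p A) B (a ⊗ₜ[A] 1) = (1 : B) ⊗ₜ[A] a
            rw [Algebra.TensorProduct.comm_tmul] } : FrobAlg.Twist p A ⊗[A] B ≃ₐ[FrobAlg.Twist p A] R)
  haveI : Algebra.FinitePresentation R B :=
    RingHom.finitePresentation_algebraMap.1
      (RingHom.FinitePresentation.of_comp_finiteType _ (by rw [hcomp]; exact hB) hft)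
  haveI : Algebra.IsIntegral R B := ⟨isIntegral_relFrob p A B⟩
  haveI : Module.Finite R B := Algebra.IsIntegral.finite
  exact ⟨inferInstance, Module.FinitePresentation.of_finite_of_finitePresentation R B⟩

theorem local_data [Algebra.Smooth A B] (r : ℕ)
    (hr : ∀ q : PrimeSpectrum B, Module.rankAtStalk (R := B) (KaehlerDifferential A B) q = r) (g : B)
    (hg : Algebra.IsStandardSmooth A (Localization.Away g)) (hn : ¬ IsNilpotent g) :
    letI := (FrobAlg.relFrob p A B).toAlgebra
    Module.Flat (FrobAlg.BaseChange p A B) (LocalizedModule.Away (g ⊗ₜ[A] (1 : FrobAlg.Twist p A)) B) ∧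
      ∀ [Module.Finite (FrobAlg.BaseChange p A B) B] [Module.Flat (FrobAlg.BaseChange p A B) B]
        (q : PrimeSpectrum (FrobAlg.BaseChange p A B)), (g ⊗ₜ[A] (1 : FrobAlg.Twist p A)) ∉ q.asIdeal →
        Module.rankAtStalk (R := FrobAlg.BaseChange p A B) B q = p ^ r := by
  classical
  letI := (FrobAlg.relFrob p A B).toAlgebra
  let R := FrobAlg.BaseChange p A B
  let C := Localization.Away g
  haveI : Nontrivial C := by
    rw [← not_subsingleton_iff_nontrivial, IsLocalization.subsingleton_iff (S := C) (M := Submonoid.powers g)]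
    rintro ⟨n, hn'⟩
    exact hn ⟨n, hn'⟩
  haveI : CharP C p := (CharP.charP_iff_prime_eq_zero hp.out).2 (by
    rw [← map_natCast (algebraMap B C), CharP.cast_eq_zero B p, map_zero])
  -- relative dimension
  obtain ⟨_, _, _, _, ⟨Pr⟩⟩ := hg.out
  haveI : Algebra.IsStandardSmoothOfRelativeDimension Pr.dimension A C := ⟨_, _, _, ‹_›, Pr, rfl⟩
  haveI : Algebra.IsStandardSmooth A C := hg
  have hdim : Pr.dimension = r := by
    have hrk := Algebra.IsStandardSmoothOfRelativeDimension.rank_kaehlerDifferential (R := A) (S := C) Pr.dimension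
    obtain ⟨q⟩ : Nonempty (PrimeSpectrum C) := inferInstance
    haveI : Algebra.FormallyEtale B C := Algebra.FormallyEtale.of_isLocalization (.powers g)
    have h1 : Module.rankAtStalk (R := C) (KaehlerDifferential A C) q = r := by
      rw [← Module.rankAtStalk_eq_of_equiv (KaehlerDifferential.tensorKaehlerEquivOfFormallyEtale A B C),
        Module.rankAtStalk_baseChange, hr]
    rw [← h1, Module.rankAtStalk_eq_finrank_of_free, Module.finrank, hrk]
    simp
  obtain ⟨gh, hgh⟩ := Algebra.IsStandardSmoothOfRelativeDimension.exists_etale_mvPolynomial Pr.dimension A C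
  letI : Algebra (MvPolynomial (Fin Pr.dimension) A) C := gh.toRingHom.toAlgebra
  haveI : IsScalarTower A (MvPolynomial (Fin Pr.dimension) A) C :=
    IsScalarTower.of_algebraMap_eq fun a => (gh.commutes a).symm
  haveI : Algebra.Etale (MvPolynomial (Fin Pr.dimension) A) C := hgh
  obtain ⟨bas⟩ := exists_basis p (A := A) Pr.dimension C
  -- the base is a localization
  let R' := FrobAlg.BaseChange p A C
  letI : Algebra R' C := (FrobAlg.relFrob p A C).toAlgebra
  let φ : R →ₐ[A] R' := Algebra.TensorProduct.map (IsScalarTower.toAlgHom A B C) (AlgHom.id A _)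
  letI algRR' : Algebra R R' := φ.toRingHom.toAlgebra
  letI : SMul R R' := algRR'.toSMul
  letI : Module R R' := algRR'.toModule
  haveI : IsScalarTower B R R' := IsScalarTower.of_algebraMap_eq fun b => by
    change (algebraMap B C b) ⊗ₜ[A] (1 : FrobAlg.Twist p A) = φ (b ⊗ₜ[A] 1)
    rfl
  haveI hlocR : IsLocalization.Away (g ⊗ₜ[A] (1 : FrobAlg.Twist p A) : R) R' := by
    have e : Submonoid.powers (g ⊗ₜ[A] (1 : FrobAlg.Twist p A) : R) = Algebra.algebraMapSubmonoid R (.powers g) := by
      simp [R]
    rw [IsLocalization.Away, e]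
    exact IsLocalization.tensorProduct_tensorProduct A (FrobAlg.Twist p A) (.powers g) C (by
      ext x
      change (algebraMap B C (1 : B)) ⊗ₜ[A] x = (1 : C) ⊗ₜ[A] x
      rw [map_one])
  have hcomm : ∀ y : R, FrobAlg.relFrob p A C (φ y) = algebraMap B C (FrobAlg.relFrob p A B y) := fun y => by
    induction y using TensorProduct.induction_on with
    | zero => simp
    | add a b ha hb => simp only [map_add, ha, hb]
    | tmul b t =>
      rw [show φ (b ⊗ₜ t) = algebraMap B C b ⊗ₜ t from rfl, relFrob_tmul, relFrob_tmul, map_mul, map_pow,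
        ← IsScalarTower.algebraMap_apply]
  haveI : IsScalarTower R R' C := IsScalarTower.of_algebraMap_eq fun y =>
    (IsScalarTower.algebraMap_apply R B C y).trans (hcomm y).symm
  have hgp : algebraMap R B (g ⊗ₜ[A] 1) = g ^ p := by
    change FrobAlg.relFrob p A B (g ⊗ₜ 1) = _
    rw [relFrob_tmul, map_one, map_one, mul_one]
  haveI : IsLocalizedModule (Submonoid.powers (g ⊗ₜ[A] (1 : FrobAlg.Twist p A) : R))
      (IsScalarTower.toAlgHom R B C).toLinearMap := by
    rw [isLocalizedModule_iff_isLocalization, Algebra.algebraMapSubmonoid_powers, hgp]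
    refine (IsLocalization.iff_of_le_of_exists_dvd (Submonoid.powers (g ^ p)) (Submonoid.powers g)
      ?_ ?_).2 inferInstance
    · rintro _ ⟨n, rfl⟩; exact ⟨p * n, by simp [pow_mul]⟩
    · rintro _ ⟨n, rfl⟩
      exact ⟨(g ^ p) ^ n, ⟨n, rfl⟩, by
        rw [← pow_mul]; exact pow_dvd_pow g (Nat.le_mul_of_pos_left n hp.out.pos)⟩
  haveI : Module.Free R' C := Module.Free.of_basis bas
  haveI : Module.Flat R R' := IsLocalization.flat R' (Submonoid.powers (g ⊗ₜ[A] (1 : FrobAlg.Twist p A) : R))
  haveI : Nontrivial R' := (FrobAlg.relFrob p A C).domain_nontrivial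
  refine ⟨?_, fun {_} {_} q hq => ?_⟩
  · haveI : Module.Flat R C := Module.Flat.trans R R' C
    exact Module.Flat.of_linearEquiv
      (IsLocalizedModule.iso (Submonoid.powers (g ⊗ₜ[A] (1 : FrobAlg.Twist p A) : R))
        (IsScalarTower.toAlgHom R B C).toLinearMap)
  · obtain ⟨q', hq'⟩ : ∃ q' : PrimeSpectrum R', q'.comap (algebraMap R R') = q :=
      (PrimeSpectrum.localization_away_comap_range R' (g ⊗ₜ[A] (1 : FrobAlg.Twist p A) : R)).ge hq
    have hbc := IsLocalizedModule.isBaseChange (Submonoid.powers (g ⊗ₜ[A] (1 : FrobAlg.Twist p A) : R)) R'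
      (IsScalarTower.toAlgHom R B C).toLinearMap
    rw [← hq', ← Module.rankAtStalk_baseChange, Module.rankAtStalk_eq_of_equiv hbc.equiv,
      Module.rankAtStalk_eq_finrank_of_free]
    show Module.finrank R' C = p ^ r
    rw [Module.finrank_eq_card_basis bas, Fintype.card_fun, Fintype.card_fin, Fintype.card_fin, hdim]

theorem main [Algebra.Smooth A B] (r : ℕ)
    (hr : ∀ q : PrimeSpectrum B, Module.rankAtStalk (R := B) (KaehlerDifferential A B) q = r) :
    letI := (FrobAlg.relFrob p A B).toAlgebra
    Module.Finite (FrobAlg.BaseChange p A B) B ∧ Module.Projective (FrobAlg.BaseChange p A B) B ∧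
      ∀ q : PrimeSpectrum (FrobAlg.BaseChange p A B),
        Module.rankAtStalk (R := FrobAlg.BaseChange p A B) B q = p ^ r := by
  classical
  letI := (FrobAlg.relFrob p A B).toAlgebra
  let R := FrobAlg.BaseChange p A B
  obtain ⟨hfin, hfp⟩ := finite_fp_relFrob p A B
  obtain ⟨s, hs, hss⟩ := Algebra.Smooth.exists_span_eq_top_isStandardSmooth A B
  have hcov : ∀ q : PrimeSpectrum R, ∃ g ∈ s, (g ⊗ₜ[A] (1 : FrobAlg.Twist p A) : R) ∉ q.asIdeal ∧ ¬ IsNilpotent g := fun q => by
    let ι : B →+* R := Algebra.TensorProduct.includeLeftRingHom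
    have hne : ¬ s ⊆ (q.asIdeal.comap ι : Ideal B) := fun h => by
      have := Ideal.span_le.2 h
      rw [hs] at this
      exact (q.isPrime.comap ι).ne_top (top_le_iff.1 this)
    obtain ⟨g, hg, hgq⟩ := Set.not_subset.1 hne
    exact ⟨g, hg, hgq, fun h => hgq ((q.isPrime.comap ι).mem_of_pow_mem _
      (h.choose_spec.symm ▸ zero_mem _ : g ^ h.choose ∈ q.asIdeal.comap ι))⟩
  let t : Set R := {x | ∃ g ∈ s, x = g ⊗ₜ[A] (1 : FrobAlg.Twist p A) ∧ ¬ IsNilpotent g}
  have ht : Ideal.span t = ⊤ := by
    by_contra h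
    obtain ⟨m, hm, hle⟩ := Ideal.exists_le_maximal _ h
    obtain ⟨g, hg, hgm, hgn⟩ := hcov ⟨m, hm.isPrime⟩
    exact hgm (hle (Ideal.subset_span ⟨g, hg, rfl, hgn⟩))
  haveI : Module.Flat R B := by
    refine Module.flat_of_localized_span _ _ t ht ?_
    rintro ⟨_, g, hg, rfl, hgn⟩
    exact (local_data p A B r hr g (hss g hg) hgn).1
  haveI := hfp
  haveI := hfin
  refine ⟨hfin, Module.Flat.projective_of_finitePresentation, fun q => ?_⟩
  obtain ⟨g, hg, hgq, hgn⟩ := hcov q
  exact (local_data p A B r hr g (hss g hg) hgn).2 q hgq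

end GrothLib.Frob
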